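import Groth.Agent.L05.Hensel.LocalAlg
import Groth.Agent.L05.Henselization.Local
import Mathlib.RingTheory.Nakayama
import Mathlib.RingTheory.ZariskisMainTheorem

/-!
# Henselizations of finitely presented algebras finite modulo the ideal
-/

open PrimeSpectrum

namespace Groth.L05.Hfp

universe u

variable {A : Type u} [CommRing A] (I : Ideal A) [HenselianRing A I]
  {R : Type u} [CommRing R] [Algebra A R] [Algebra.FiniteType A R]

omit [HenselianRing A I] in
theorem quasiFiniteAt_of_quotient_finite
    [Module.Finite A (R ⧸ I.map (algebraMap A R))] (p : Ideal R) [p.IsPrime]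
    (hp : I.map (algebraMap A R) ≤ p) : Algebra.QuasiFiniteAt A p := by
  set J := I.map (algebraMap A R)
  refine Algebra.QuasiFiniteAt.of_isOpen_singleton_fiber ⟨p, inferInstance⟩ ?_
  set P := PrimeSpectrum.comap (algebraMap A R) ⟨p, inferInstance⟩
  have hd := Algebra.QuasiFinite.isDiscrete_comap_preimage_singleton (R := A) (S := R ⧸ J) P
  have hemb := PrimeSpectrum.isClosedEmbedding_comap_of_surjective _ (Ideal.Quotient.mk J)
    Ideal.Quotient.mk_surjective
  have himg := hd.image hemb.isEmbedding.isInducing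
  have heq : PrimeSpectrum.comap (Ideal.Quotient.mk J) ''
      (PrimeSpectrum.comap (algebraMap A (R ⧸ J)) ⁻¹' {P}) =
      PrimeSpectrum.comap (algebraMap A R) ⁻¹' {P} := by
    have hPI : I ≤ P.asIdeal := Ideal.map_le_iff_le_comap.mp hp
    ext q
    constructor
    · rintro ⟨y, hy, rfl⟩
      exact hy
    · intro hq
      have hJq : J ≤ q.asIdeal := Ideal.map_le_iff_le_comap.mpr
        (hPI.trans (congrArg PrimeSpectrum.asIdeal hq).ge)
      obtain ⟨y, rfl⟩ : q ∈ Set.range (PrimeSpectrum.comap (Ideal.Quotient.mk J)) := by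
        rw [range_comap_of_surjective _ _ Ideal.Quotient.mk_surjective]
        exact (Ideal.mk_ker (I := J)).trans_le hJq
      exact ⟨y, hq, rfl⟩
  rw [heq] at himg
  haveI := himg.to_subtype
  exact isOpen_discrete _

/-- An algebra finite modulo a henselian ideal splits off a finite part containing the closed fibre. -/
theorem exists_idem_finite_of_quotient_finite [Module.Finite A (R ⧸ I.map (algebraMap A R))] :
    ∃ e : R, IsIdempotentElem e ∧ e - 1 ∈ I.map (algebraMap A R) ∧
      Module.Finite A (R ⧸ Ideal.span ({1 - e} : Set R)) := by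
  refine Groth.L05.exists_idem_finite_piece I 1 (by simp)
    (fun p _ hp _ => quasiFiniteAt_of_quotient_finite I p hp) fun x => ?_
  have h := (IsIntegral.of_finite A (Ideal.Quotient.mk (I.map (algebraMap A R)) x)).map
    (Ideal.Quotient.factorₐ A (le_sup_left : I.map (algebraMap A R) ≤
      I.map (algebraMap A R) ⊔ Ideal.span {1 - 1}))
  exact h

theorem isPairHenselization_finite_piece {e : R} (he : IsIdempotentElem e)
    (heI : e - 1 ∈ I.map (algebraMap A R)) (hfin : Module.Finite A (R ⧸ Ideal.span ({1 - e} : Set R))) :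
    Hens2.IsPairHenselization R (I.map (algebraMap A R)) (R ⧸ Ideal.span ({1 - e} : Set R)) := by
  refine ⟨?_, fun C _ J f hC hf => ?_⟩
  · rw [Ideal.map_map, ← IsScalarTower.algebraMap_eq]
    exact Groth.L05.henselianRing_map_of_isIntegral I _
  · have hfe : f e = 1 := Groth.L05.idem_eq_of_sub_mem hC.jac (he.map f) IsIdempotentElem.one (by
      rw [← map_one f, ← map_sub]
      exact hf (Ideal.mem_map_of_mem f heI))
    refine ⟨Ideal.Quotient.lift _ f fun x hx => ?_, Ideal.Quotient.lift_comp_mk _ _ _,
      fun g hg => Ideal.Quotient.ringHom_ext (hg.trans (Ideal.Quotient.lift_comp_mk _ _ _).symm)⟩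
    obtain ⟨c, rfl⟩ := Ideal.mem_span_singleton'.mp hx
    rw [map_mul, map_sub, map_one, hfe, sub_self, mul_zero]

variable {B : Type u} [CommRing B] [Algebra R B] [Algebra A B] [IsScalarTower A R B]
  (hB : Hens2.IsPairHenselization R (I.map (algebraMap A R)) B)

include hB in
omit [HenselianRing A I] [Algebra.FiniteType A R] in
theorem finite_quotient_of_hens
    (hfin : (Ideal.quotientMap (I.map (algebraMap A B)) (algebraMap A B) Ideal.le_comap_map).Finite) :
    Module.Finite A (R ⧸ I.map (algebraMap A R)) := by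
  have hAB : Module.Finite A (B ⧸ I.map (algebraMap A B)) :=
    RingHom.finite_algebraMap.mp (hfin.comp (RingHom.Finite.of_surjective _ Ideal.Quotient.mk_surjective))
  have hb := Groth.L05.Henselization.quotientMap_pow_bijective R (I.map (algebraMap A R)) hB 1
  have e : ((I.map (algebraMap A R)) ^ 1).map (algebraMap R B) = I.map (algebraMap A B) := by
    rw [pow_one, Ideal.map_map, ← IsScalarTower.algebraMap_eq]
  let φ : (R ⧸ I.map (algebraMap A R)) →ₐ[A] B ⧸ I.map (algebraMap A B) :=
    Ideal.quotientMapₐ _ (IsScalarTower.toAlgHom A R B) (Ideal.map_le_iff_le_comap.mp (by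
      show Ideal.map (algebraMap R B) _ ≤ _
      rw [Ideal.map_map, ← IsScalarTower.algebraMap_eq]))
  have hφ : Function.Bijective φ := by
    refine ⟨fun x y hxy => ?_, fun z => ?_⟩
    · obtain ⟨x, rfl⟩ := Ideal.Quotient.mk_surjective x
      obtain ⟨y, rfl⟩ := Ideal.Quotient.mk_surjective y
      have h' : algebraMap R B x - algebraMap R B y ∈ I.map (algebraMap A B) := Ideal.Quotient.eq.mp hxy
      rw [← e, ← Ideal.Quotient.eq] at h'
      have := hb.1 (a₁ := Ideal.Quotient.mk _ x) (a₂ := Ideal.Quotient.mk _ y) h'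
      rw [Ideal.Quotient.eq, pow_one] at this
      exact Ideal.Quotient.eq.mpr this
    · obtain ⟨b, rfl⟩ := Ideal.Quotient.mk_surjective z
      obtain ⟨q, hq⟩ := hb.2 (Ideal.Quotient.mk _ b)
      obtain ⟨r, rfl⟩ := Ideal.Quotient.mk_surjective q
      rw [Ideal.quotientMap_mk, Ideal.Quotient.eq, e] at hq
      exact ⟨Ideal.Quotient.mk _ r, Ideal.Quotient.eq.mpr hq⟩
  exact Module.Finite.equiv (AlgEquiv.ofBijective φ hφ).symm.toLinearEquiv

include hB in
/-- The henselization of an algebra finite modulo `I` is a quotient by one element. -/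
theorem exists_algEquiv_of_quotient_finite
    (hfin : (Ideal.quotientMap (I.map (algebraMap A B)) (algebraMap A B) Ideal.le_comap_map).Finite) :
    ∃ e : R, Module.Finite A (R ⧸ Ideal.span ({1 - e} : Set R)) ∧
      Nonempty ((R ⧸ Ideal.span ({1 - e} : Set R)) ≃ₐ[A] B) := by
  haveI := finite_quotient_of_hens I hB hfin
  obtain ⟨e, he, heI, hf⟩ := exists_idem_finite_of_quotient_finite I (R := R)
  obtain ⟨φ, -⟩ := Groth.L05.Henselization.isPairHenselization_algEquiv R _
    (isPairHenselization_finite_piece I he heI hf) hB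
  exact ⟨e, hf, ⟨φ.restrictScalars A⟩⟩

omit [Algebra.FiniteType A R] in
theorem surjective_of_finite {B : Type u} [CommRing B] [Algebra A B] [Module.Finite A B]
    (hsurj : Function.Surjective
      (Ideal.quotientMap (I.map (algebraMap A B)) (algebraMap A B) Ideal.le_comap_map)) :
    Function.Surjective (algebraMap A B) := by
  have hle : (⊤ : Submodule A B) ≤ LinearMap.range (Algebra.linearMap A B) := by
    refine Submodule.le_of_le_smul_of_le_jacobson_bot Module.Finite.fg_top
      ‹HenselianRing A I›.jac fun b _ => ?_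
    obtain ⟨q, hq⟩ := hsurj (Ideal.Quotient.mk _ b)
    obtain ⟨a, rfl⟩ := Ideal.Quotient.mk_surjective q
    rw [Ideal.quotientMap_mk, Ideal.Quotient.eq] at hq
    refine Submodule.mem_sup.mpr ⟨algebraMap A B a, ⟨a, rfl⟩, b - algebraMap A B a, ?_, by ring⟩
    rw [Ideal.smul_top_eq_map, Submodule.restrictScalars_mem, ← neg_sub]
    exact neg_mem hq
  exact fun b => hle trivial

end Groth.L05.Hfp
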