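import Groth.Agent.L05.Henselization.Nbhd
import Groth.Agent.L05.Henselization.Local
import Mathlib.RingTheory.FinitePresentation

/-!
# Maps out of henselizations; neighbourhood stages; quotients
-/

open TensorProduct

namespace Groth.L05.Hfp

universe u

section Relative

variable {A : Type u} [CommRing A] (I : Ideal A) {R B : Type u} [CommRing R] [Algebra A R]
  [CommRing B] [Algebra R B] [Algebra A B] [IsScalarTower A R B]
  (hB : Hens2.IsPairHenselization R (I.map (algebraMap A R)) B)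

include hB

theorem henselianRing_hens : HenselianRing B (I.map (algebraMap A B)) := by
  have := hB.1
  rwa [Ideal.map_map, ← IsScalarTower.algebraMap_eq] at this

theorem existsUnique_extend {T : Type u} [CommRing T] [Algebra A T] (J : Ideal T) [HenselianRing T J]
    (hJ : I.map (algebraMap A T) ≤ J) (φ₀ : R →ₐ[A] T) :
    ∃! φ : B →ₐ[A] T, φ.comp (IsScalarTower.toAlgHom A R B) = φ₀ := by
  obtain ⟨g, hg, hgu⟩ := hB.2 T J φ₀.toRingHom inferInstance (by
    rw [Ideal.map_map, show φ₀.toRingHom.comp (algebraMap A R) = algebraMap A T from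
      φ₀.comp_algebraMap]
    exact hJ)
  have hc : ∀ a, g (algebraMap A B a) = algebraMap A T a := fun a => by
    rw [IsScalarTower.algebraMap_apply A R B, ← RingHom.comp_apply g, hg]
    exact φ₀.commutes a
  refine ⟨{ g with commutes' := hc }, AlgHom.ext fun r => DFunLike.congr_fun hg r, fun φ hφ => ?_⟩
  have h2 : φ.toRingHom = g := hgu φ.toRingHom (RingHom.ext fun r => DFunLike.congr_fun hφ r)
  exact AlgHom.ext fun x => DFunLike.congr_fun h2 x

theorem algHom_ext_hens {T : Type u} [CommRing T] [Algebra A T] (J : Ideal T) [HenselianRing T J]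
    (hJ : I.map (algebraMap A T) ≤ J) {φ ψ : B →ₐ[A] T}
    (h : ∀ r, φ (algebraMap R B r) = ψ (algebraMap R B r)) : φ = ψ :=
  (existsUnique_extend I hB J hJ (φ.comp (IsScalarTower.toAlgHom A R B))).unique rfl
    (AlgHom.ext fun r => (h r).symm)

end Relative

section Nbhd

open Groth.L05.Henselization

variable {A : Type u} [CommRing A] {I : Ideal A} {B : Type u} [CommRing B] [Algebra A B]
  (hB : Hens2.IsPairHenselization A I B)

include hB

theorem isPairHenselization_nbhd {S : Type u} [CommRing S] [Algebra A S] [Algebra.Etale A S]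
    {σ : S →ₐ[A] A ⧸ I} (hσ : RingHom.ker σ = I.map (algebraMap A S)) [Algebra S B]
    [IsScalarTower A S B] : Hens2.IsPairHenselization S (I.map (algebraMap A S)) B := by
  refine ⟨?_, fun C _ J f hC hf => ?_⟩
  · rw [Ideal.map_map, ← IsScalarTower.algebraMap_eq]
    exact hB.1
  letI : Algebra A C := (f.comp (algebraMap A S)).toAlgebra
  have hJ : I.map (algebraMap A C) ≤ J := by
    show I.map (f.comp (algebraMap A S)) ≤ J
    rw [← Ideal.map_map]
    exact hf
  obtain ⟨g, hg, hgu⟩ := hB.2 C J (algebraMap A C) hC hJ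
  obtain ⟨g₀, -, hu⟩ := existsUnique_algHom_of_section I hσ J hJ
  let f' : S →ₐ[A] C := { f with commutes' := fun a => rfl }
  let g' : S →ₐ[A] C := { g.comp (algebraMap S B) with
    commutes' := fun a => by
      show g (algebraMap S B (algebraMap A S a)) = _
      rw [← IsScalarTower.algebraMap_apply]
      exact DFunLike.congr_fun hg a }
  refine ⟨g, ?_, fun g₂ hg₂ => hgu g₂ ?_⟩
  · exact congrArg AlgHom.toRingHom ((hu g' trivial).trans (hu f' trivial).symm)
  · show g₂.comp (algebraMap A B) = _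
    rw [IsScalarTower.algebraMap_eq A S B, ← RingHom.comp_assoc, hg₂]
    rfl

theorem exists_nbhd_kill_finset {S : Type u} [CommRing S] [Algebra A S] [Algebra.Etale A S]
    {σ : S →ₐ[A] A ⧸ I} (hσ : RingHom.ker σ = I.map (algebraMap A S)) (g : S →ₐ[A] B)
    (t : Finset S) (ht : ∀ x ∈ t, g x = 0) :
    ∃ (S' : Type u) (_ : CommRing S') (_ : Algebra A S') (_ : Algebra.Etale A S')
      (σ' : S' →ₐ[A] A ⧸ I) (g' : S' →ₐ[A] B) (ψ : S →ₐ[A] S'),
      RingHom.ker σ' = I.map (algebraMap A S') ∧ g'.comp ψ = g ∧ ∀ x ∈ t, ψ x = 0 := by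
  classical
  induction t using Finset.induction with
  | empty => exact ⟨S, inferInstance, inferInstance, inferInstance, σ, g, AlgHom.id A S, hσ,
      AlgHom.comp_id g, by simp⟩
  | insert x t hx ih =>
    obtain ⟨S', _, _, _, σ', g', ψ, hσ', hg', hψ⟩ := ih fun y hy => ht y (Finset.mem_insert_of_mem hy)
    obtain ⟨S'', _, _, _, σ'', hσ'', χ, hχ⟩ := exists_section_killing I hB hσ' g' (ψ x) (by
      rw [← AlgHom.comp_apply, hg']
      exact ht x (Finset.mem_insert_self x t))
    haveI := hB.1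
    obtain ⟨g'', -, -⟩ := existsUnique_algHom_of_section I hσ'' (I.map (algebraMap A B)) le_rfl
    obtain ⟨g₀, -, hu⟩ := existsUnique_algHom_of_section I hσ (I.map (algebraMap A B)) le_rfl
    refine ⟨S'', inferInstance, inferInstance, inferInstance, σ'', g'', χ.comp ψ, hσ'',
      (hu _ trivial).trans (hu g trivial).symm, fun y hy => ?_⟩
    rcases Finset.mem_insert.mp hy with rfl | hy
    · exact hχ
    · rw [AlgHom.comp_apply, hψ y hy, map_zero]

theorem exists_nbhd_lift_finset (s : Finset B) :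
    ∃ (S : Type u) (_ : CommRing S) (_ : Algebra A S) (_ : Algebra.Etale A S)
      (σ : S →ₐ[A] A ⧸ I) (g : S →ₐ[A] B),
      RingHom.ker σ = I.map (algebraMap A S) ∧ ∀ b ∈ s, b ∈ g.range := by
  classical
  haveI := hB.1
  induction s using Finset.induction with
  | empty =>
    refine ⟨A, inferInstance, inferInstance, inferInstance, Ideal.Quotient.mkₐ A I,
      Algebra.ofId A B, ?_, by simp⟩
    rw [Algebra.algebraMap_self, Ideal.map_id]
    exact Ideal.Quotient.mkₐ_ker A I
  | insert b s hb ih =>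
    obtain ⟨S₁, _, _, _, σ₁, g₁, hσ₁, h₁⟩ := ih
    obtain ⟨S₂, _, _, _, σ₂, g₂, x, hσ₂, hx⟩ := exists_section_lift I hB b
    obtain ⟨S, i1, i2, i3, σ, hσ, ⟨j₁⟩, ⟨j₂⟩⟩ := directed_sections I hσ₁ hσ₂
    obtain ⟨g, -, -⟩ := existsUnique_algHom_of_section I hσ (I.map (algebraMap A B)) le_rfl
    obtain ⟨g₀, -, hu₁⟩ := existsUnique_algHom_of_section I hσ₁ (I.map (algebraMap A B)) le_rfl
    obtain ⟨g₀', -, hu₂⟩ := existsUnique_algHom_of_section I hσ₂ (I.map (algebraMap A B)) le_rfl
    refine ⟨S, i1, i2, i3, σ, g, hσ, fun c hc => ?_⟩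
    rcases Finset.mem_insert.mp hc with rfl | hc
    · exact ⟨j₂ x, (DFunLike.congr_fun ((hu₂ (g.comp j₂) trivial).trans (hu₂ g₂ trivial).symm) x).trans hx⟩
    · obtain ⟨y, hy⟩ := h₁ c hc
      exact ⟨j₁ y, (DFunLike.congr_fun ((hu₁ (g.comp j₁) trivial).trans (hu₁ g₁ trivial).symm) y).trans hy⟩

end Nbhd

theorem isPairHenselization_quotient {Q P : Type u} [CommRing Q] [CommRing P] [Algebra Q P]
    {J : Ideal Q} (hP : Hens2.IsPairHenselization Q J P) (K : Ideal Q) :
    Hens2.IsPairHenselization (Q ⧸ K) (J.map (Ideal.Quotient.mk K))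
      (P ⧸ K.map (algebraMap Q P)) := by
  have hc : (algebraMap (Q ⧸ K) (P ⧸ K.map (algebraMap Q P))).comp (Ideal.Quotient.mk K) =
      (Ideal.Quotient.mk (K.map (algebraMap Q P))).comp (algebraMap Q P) := RingHom.ext fun x => rfl
  refine ⟨?_, fun C _ N f hC hf => ?_⟩
  · haveI := hP.1
    rw [Ideal.map_map, hc, ← Ideal.map_map]
    exact Groth.L05.henselianRing_quotient _ _
  obtain ⟨g, hg, hgu⟩ := hP.2 C N (f.comp (Ideal.Quotient.mk K)) hC (by rwa [← Ideal.map_map])
  have hK : K.map (algebraMap Q P) ≤ RingHom.ker g := Ideal.map_le_iff_le_comap.mpr fun k hk => by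
    rw [Ideal.mem_comap, RingHom.mem_ker, ← RingHom.comp_apply g, hg, RingHom.comp_apply,
      Ideal.Quotient.eq_zero_iff_mem.mpr hk, map_zero]
  refine ⟨Ideal.Quotient.lift _ g fun x hx => hK hx, Ideal.Quotient.ringHom_ext ?_,
    fun g₂ hg₂ => Ideal.Quotient.ringHom_ext ?_⟩
  · rw [RingHom.comp_assoc, hc, ← RingHom.comp_assoc, Ideal.Quotient.lift_comp_mk, hg]
  · rw [Ideal.Quotient.lift_comp_mk]
    refine hgu _ ?_
    show (g₂.comp (Ideal.Quotient.mk (K.map (algebraMap Q P)))).comp (algebraMap Q P) =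
      f.comp (Ideal.Quotient.mk K)
    rw [RingHom.comp_assoc, ← hc, ← RingHom.comp_assoc, hg₂]

end Groth.L05.Hfp
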