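import Groth.Agent.L05.Hfp.Surjection
import Groth.Agent.L05.Hensel.Smooth
import Mathlib.RingTheory.Smooth.Flat

/-!
# Algebraization of henselian finitely presented algebras from a lift of the special fibre
-/

set_option autoImplicit false

universe u

namespace Groth.L05.Hfp

variable {A : Type u} [CommRing A] (I : Ideal A) [HenselianRing A I]
  {R₀ : Type u} [CommRing R₀] [Algebra A R₀] [Algebra.FinitePresentation A R₀]
  {B : Type u} [CommRing B] [Algebra R₀ B] [Algebra A B] [IsScalarTower A R₀ B]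
  (hB : Hens2.IsPairHenselization R₀ (I.map (algebraMap A R₀)) B)

include hB

/-- A smooth lift of the special fibre algebraizes `B` up to a kernel inside `I`. -/
theorem exists_surjection_of_smooth {R : Type u} [CommRing R] [Algebra A R] [Algebra.Smooth A R]
    (ψ : R →ₐ[A] B ⧸ (I ^ 1).map (algebraMap A B)) (hψ : Function.Surjective ψ)
    (hker : RingHom.ker ψ = (I ^ 1).map (algebraMap A R)) :
    ∃ (H : Type u) (_ : CommRing H) (_ : Algebra R H) (_ : Algebra A H) (_ : IsScalarTower A R H)
      (φ : H →ₐ[A] B), Hens2.IsPairHenselization R (I.map (algebraMap A R)) H ∧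
      Function.Surjective φ ∧ (RingHom.ker φ).FG ∧ RingHom.ker φ ≤ I.map (algebraMap A H) := by
  have e : (I ^ 1).map (algebraMap A B) = I.map (algebraMap A B) := by rw [pow_one]
  haveI : HenselianRing B ((I ^ 1).map (algebraMap A B)) := e ▸ henselianRing_hens I hB
  let ψ' : TensorProduct A B R →ₐ[B] B ⧸ (I ^ 1).map (algebraMap A B) :=
    Algebra.TensorProduct.lift (Algebra.ofId B _) ψ fun _ _ => Commute.all _ _
  obtain ⟨τ, hτ⟩ := Groth.L05.exists_algHom_lift_smooth ((I ^ 1).map (algebraMap A B)) ψ'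
  let θ : R →ₐ[A] B := (τ.restrictScalars A).comp Algebra.TensorProduct.includeRight
  have hθ : ∀ r, Ideal.Quotient.mk _ (θ r) = ψ r := fun r => by
    refine (DFunLike.congr_fun hτ ((1 : B) ⊗ₜ[A] r)).trans ?_
    simp [ψ']
  haveI : Algebra.FinitePresentation A R := inferInstance
  obtain ⟨H, _, _, _, _, φ, h₁, -, h₂, h₃, h₄⟩ := exists_surjection I hB θ (fun b => by
      obtain ⟨r, hr⟩ := hψ (Ideal.Quotient.mk _ b)
      exact ⟨r, e ▸ Ideal.Quotient.eq.mp ((hθ r).trans hr)⟩) (fun r hr => by
      rw [← pow_one I, ← hker, RingHom.mem_ker, ← hθ, Ideal.Quotient.eq_zero_iff_mem, e]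
      exact hr)
  exact ⟨H, inferInstance, inferInstance, inferInstance, inferInstance, φ, h₁, h₂, h₃, h₄⟩

/-- The flat case. -/
theorem exists_algebra_of_smooth [Module.Flat A B] {R : Type u} [CommRing R] [Algebra A R] [Algebra.Smooth A R]
    (ψ : R →ₐ[A] B ⧸ (I ^ 1).map (algebraMap A B)) (hψ : Function.Surjective ψ)
    (hker : RingHom.ker ψ = (I ^ 1).map (algebraMap A R)) :
    ∃ (_ : Algebra R B) (_ : IsScalarTower A R B),
      Hens2.IsPairHenselization R (I.map (algebraMap A R)) B := by
  obtain ⟨H, _, _, _, _, φ, h₁, h₂, h₃, h₄⟩ := exists_surjection_of_smooth I hB ψ hψ hker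
  letI : Algebra R B := (φ.toRingHom.comp (algebraMap R H)).toAlgebra
  haveI : IsScalarTower A R B := IsScalarTower.of_algebraMap_eq fun a => by
    show _ = φ (algebraMap R H (algebraMap A R a))
    rw [← IsScalarTower.algebraMap_apply, φ.commutes]
  exact ⟨inferInstance, inferInstance,
    isPairHenselization_of_surjection I hB φ h₁ h₂ h₃ h₄ fun _ => rfl⟩

end Groth.L05.Hfp
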