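import Groth.Agent.L05.Henselization.Nbhd
import Groth.Agent.L20.FlatLocusOpen
import Mathlib.RingTheory.Smooth.Locus
import Mathlib.RingTheory.ZariskisMainTheorem

/-!
# Shrinking to an open locus containing a closed subset
-/

open PrimeSpectrum

namespace Groth.L05.Hfp

universe u

theorem exists_sub_one_mem_basicOpen_subset {R : Type u} [CommRing R] (J : Ideal R)
    (U : Set (PrimeSpectrum R)) (hU : IsOpen U) (hJ : zeroLocus (J : Set R) ⊆ U) :
    ∃ f : R, f - 1 ∈ J ∧ (basicOpen f : Set (PrimeSpectrum R)) ⊆ U := by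
  obtain ⟨s, hs⟩ := PrimeSpectrum.isOpen_iff U |>.mp hU
  have htop : Ideal.span s ⊔ J = ⊤ := by
    rw [← zeroLocus_empty_iff_eq_top, zeroLocus_sup]
    refine Set.eq_empty_iff_forall_notMem.mpr fun x ⟨h1, h2⟩ => ?_
    rw [zeroLocus_span, ← hs] at h1
    exact h1 (hJ h2)
  obtain ⟨f, hf, j, hj, hfj⟩ := Submodule.mem_sup.mp ((Ideal.eq_top_iff_one _).mp htop)
  refine ⟨f, by rw [← hfj, sub_add_cancel_left]; exact neg_mem hj, fun x hx => ?_⟩
  by_contra hxU
  have : x ∈ zeroLocus (Ideal.span s : Set R) := by
    rw [zeroLocus_span, ← hs]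
    exact hxU
  exact hx (this hf)

theorem bijective_quotientMap_away {R : Type u} [CommRing R] (J : Ideal R) (f : R) (hf : f - 1 ∈ J) :
    Function.Bijective (Ideal.quotientMap (J.map (algebraMap R (Localization.Away f)))
      (algebraMap R (Localization.Away f)) Ideal.le_comap_map) := by
  rw [Groth.L05.Henselization.exists_section_iff J]
  have hf1 : Ideal.Quotient.mk J f = 1 := by
    rw [← map_one (Ideal.Quotient.mk J), Ideal.Quotient.eq]; exact hf
  let σ : Localization.Away f →ₐ[R] R ⧸ J := IsLocalization.liftAlgHom (M := Submonoid.powers f)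
    (f := Ideal.Quotient.mkₐ R J) (fun ⟨y, m, hy⟩ => by subst hy; simp [hf1])
  have hσ : ∀ y, σ (algebraMap R _ y) = Ideal.Quotient.mk J y := fun y => σ.commutes y
  refine ⟨σ, le_antisymm (fun z hz => ?_) (Ideal.map_le_iff_le_comap.mpr fun i hi => ?_)⟩
  · obtain ⟨⟨y, s⟩, hys⟩ := IsLocalization.surj (Submonoid.powers f) z
    have hy : y ∈ J := by
      rw [← Ideal.Quotient.eq_zero_iff_mem, ← hσ, ← hys, map_mul, show σ z = 0 from hz, zero_mul]
    have h1 := Ideal.mem_map_of_mem (algebraMap R (Localization.Away f)) hy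
    rwa [← hys, mul_comm, Ideal.unit_mul_mem_iff_mem _ (IsLocalization.map_units _ s)] at h1
  · rw [Ideal.mem_comap, RingHom.mem_ker, hσ]
    exact Ideal.Quotient.eq_zero_iff_mem.mpr hi

theorem exists_quasiFinite_away {A R : Type u} [CommRing A] [CommRing R] [Algebra A R]
    [Algebra.FiniteType A R] (p : Ideal R) [p.IsPrime] [Algebra.QuasiFiniteAt A p] :
    ∃ g ∉ p, Algebra.QuasiFinite A (Localization.Away g) := by
  obtain ⟨S', hS', r, hrp, H⟩ :=
    Algebra.QuasiFiniteAt.exists_fg_and_exists_notMem_and_awayMap_bijective (R := A) p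
  haveI : Module.Finite A S' := ⟨(Submodule.fg_top _).mpr hS'⟩
  haveI : Algebra.QuasiFinite A (Localization.Away r) := .trans _ S' _
  exact ⟨r.1, hrp, .of_surjective_algHom (Localization.awayMapₐ S'.val r) H.2⟩

theorem quasiFinite_of_forall {A R : Type u} [CommRing A] [CommRing R] [Algebra A R]
    [Algebra.FiniteType A R] (h : ∀ (p : Ideal R) [p.IsPrime], Algebra.QuasiFiniteAt A p) :
    Algebra.QuasiFinite A R := by
  refine Algebra.QuasiFinite.iff_finite_comap_preimage_singleton.mpr fun P => ?_
  haveI : DiscreteTopology (PrimeSpectrum.comap (algebraMap A R) ⁻¹' {P}) := by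
    refine discreteTopology_iff_isOpen_singleton.mpr fun ⟨q, hq⟩ => ?_
    cases hq
    haveI := h q.asIdeal
    exact (Algebra.quasiFiniteAt_iff_isOpen_singleton_fiber q).mp inferInstance
  haveI : CompactSpace (PrimeSpectrum.comap (algebraMap A R) ⁻¹' {P}) :=
    (PrimeSpectrum.preimageHomeomorphFiber A R P).symm.compactSpace
  exact Set.finite_coe_iff.mp finite_of_compact_of_discrete

theorem quasiFiniteAt_of_away {A R : Type u} [CommRing A] [CommRing R] [Algebra A R] (g : R)
    [Algebra.QuasiFinite A (Localization.Away g)] (p : Ideal R) [p.IsPrime] (hp : g ∉ p) :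
    Algebra.QuasiFiniteAt A p := by
  let φ : Localization.Away g →ₐ[A] Localization.AtPrime p :=
    (IsLocalization.Away.liftAlgHom g (f := Algebra.ofId R (Localization.AtPrime p))
      (IsLocalization.map_units (M := p.primeCompl) (Localization.AtPrime p) ⟨g, hp⟩)).restrictScalars A
  refine Algebra.QuasiFinite.of_forall_exists_mul_mem_range φ fun x => ?_
  obtain ⟨x, ⟨s, hs⟩, rfl⟩ := IsLocalization.exists_mk'_eq p.primeCompl x
  exact ⟨algebraMap _ _ s, by simpa [φ] using IsLocalization.map_units _ ⟨s, hs⟩,
    algebraMap _ _ x, by simp [φ]⟩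

end Groth.L05.Hfp

namespace Groth.L05.Hfp

universe u

theorem flat_atPrime_iff {A R : Type u} [CommRing A] [CommRing R] [Algebra A R] (p : Ideal R)
    [p.IsPrime] : Module.Flat A (LocalizedModule p.primeCompl R) ↔
      Module.Flat A (Localization.AtPrime p) :=
  let e := (IsLocalizedModule.iso p.primeCompl
    (Algebra.linearMap R (Localization.AtPrime p))).restrictScalars A
  ⟨fun _ => Module.Flat.of_linearEquiv e.symm, fun _ => Module.Flat.of_linearEquiv e⟩

theorem flat_away_of_forall {A R : Type u} [CommRing A] [CommRing R] [Algebra A R] (f : R)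
    (h : ∀ (p : Ideal R) [p.IsPrime], f ∉ p → Module.Flat A (Localization.AtPrime p)) :
    Module.Flat A (Localization.Away f) := by
  refine Module.flat_of_isLocalized_maximal (R := A) (S := Localization.Away f)
    (M := Localization.Away f) (fun P _ => Localization.AtPrime P)
    (fun P _ => Algebra.linearMap (Localization.Away f) (Localization.AtPrime P)) fun P hP => ?_
  have hf : f ∉ P.comap (algebraMap R (Localization.Away f)) := fun hf =>
    hP.ne_top (P.eq_top_of_isUnit_mem hf (IsLocalization.Away.algebraMap_isUnit f))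
  haveI := h (P.comap (algebraMap R (Localization.Away f))) hf
  haveI : IsLocalization.AtPrime (Localization.AtPrime P) (P.comap (algebraMap R (Localization.Away f))) :=
    IsLocalization.isLocalization_isLocalization_atPrime_isLocalization (Submonoid.powers f) _ P
  exact Module.Flat.of_linearEquiv ((IsLocalization.algEquiv
    (P.comap (algebraMap R (Localization.Away f))).primeCompl
    (Localization.AtPrime (P.comap (algebraMap R (Localization.Away f))))
    (Localization.AtPrime P)).restrictScalars A).toLinearEquiv.symm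

end Groth.L05.Hfp
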