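import Groth.Agent.L05.Hfp.Stage
import Mathlib.Algebra.Algebra.Subalgebra.Basic

/-!
# Presentations of henselian finitely presented algebras
-/

namespace Groth.L05.Hfp

universe u

open Groth.L05.Henselization

variable {A : Type u} [CommRing A] (I : Ideal A)

theorem exists_presentation {B : Type u} [CommRing B] [Algebra A B] {R : Type u} [CommRing R]
    [Algebra A R] [Algebra R B] [IsScalarTower A R B] [Algebra.FinitePresentation A R]
    (hB : Hens2.IsPairHenselization R (I.map (algebraMap A R)) B) :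
    ∃ (n : ℕ) (P : Type u) (_ : CommRing P) (_ : Algebra (MvPolynomial (Fin n) A) P) (_ : Algebra A P)
      (_ : IsScalarTower A (MvPolynomial (Fin n) A) P),
      Hens2.IsPairHenselization (MvPolynomial (Fin n) A)
        (I.map (algebraMap A (MvPolynomial (Fin n) A))) P ∧
      ∃ φ : P →ₐ[A] B, Function.Surjective φ ∧ (RingHom.ker φ).FG := by
  obtain ⟨n, π, hπ, hfg⟩ := Algebra.FinitePresentation.out (R := A) (A := R)
  let Q := MvPolynomial (Fin n) A
  let J := I.map (algebraMap A Q)
  let P := PairHens Q J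
  letI : Algebra A P := ((algebraMap Q P).comp (algebraMap A Q)).toAlgebra
  haveI : IsScalarTower A Q P := IsScalarTower.of_algebraMap_eq' rfl
  have hP := isPairHenselization Q J
  have hQ := isPairHenselization_quotient hP (RingHom.ker π.toRingHom)
  set K := (RingHom.ker π.toRingHom).map (algebraMap Q P)
  let e : (Q ⧸ RingHom.ker π.toRingHom) ≃+* R := RingHom.quotientKerEquivOfSurjective hπ
  haveI := henselianRing_hens I hB
  obtain ⟨φ, hφ, -⟩ := existsUnique_extend I hP (I.map (algebraMap A B)) le_rfl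
    ((IsScalarTower.toAlgHom A R B).comp π)
  have hφK : K ≤ RingHom.ker φ := Ideal.map_le_iff_le_comap.mpr fun q hq => by
    rw [Ideal.mem_comap, RingHom.mem_ker]
    refine (DFunLike.congr_fun hφ q).trans ?_
    show algebraMap R B (π q) = 0
    rw [show π q = 0 from hq, map_zero]
  haveI hPK : HenselianRing (P ⧸ K) (I.map (algebraMap A (P ⧸ K))) := by
    have := hQ.1
    rw [Ideal.map_map, Ideal.map_map] at this
    exact this
  let ψ₀ : R →ₐ[A] P ⧸ K := AlgHom.liftOfSurjective π hπ
    ((Ideal.Quotient.mkₐ A K).comp (IsScalarTower.toAlgHom A Q P)) fun q hq =>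
      Ideal.Quotient.eq_zero_iff_mem.mpr (Ideal.mem_map_of_mem _ hq)
  obtain ⟨ψ, hψ, -⟩ := existsUnique_extend I hB (I.map (algebraMap A (P ⧸ K))) le_rfl ψ₀
  have hψq : ∀ q, ψ (algebraMap R B (π q)) = Ideal.Quotient.mk K (algebraMap Q P q) := fun q =>
    (DFunLike.congr_fun hψ (π q)).trans (AlgHom.liftOfSurjective_apply π hπ _ _ q)
  have hφq : ∀ q, φ (algebraMap Q P q) = algebraMap R B (π q) := fun q => DFunLike.congr_fun hφ q
  have h1 : ψ.comp φ = Ideal.Quotient.mkₐ A K :=
    algHom_ext_hens I hP (I.map (algebraMap A (P ⧸ K))) le_rfl fun q => by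
      rw [AlgHom.comp_apply, hφq, hψq]
      rfl
  have hsurj : Function.Surjective φ := by
    intro b
    obtain ⟨x, hx⟩ := Ideal.Quotient.mk_surjective (ψ b)
    refine ⟨x, ?_⟩
    let φ' : (P ⧸ K) →ₐ[A] B := Ideal.Quotient.liftₐ K φ fun y hy => hφK hy
    have h2 : φ'.comp ψ = AlgHom.id A B :=
      algHom_ext_hens I hB (I.map (algebraMap A B)) le_rfl fun r => by
        obtain ⟨q, rfl⟩ := hπ r
        rw [AlgHom.comp_apply, hψq]
        exact hφq q
    have := DFunLike.congr_fun h2 b
    rw [AlgHom.comp_apply, ← hx] at this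
    exact this
  have hker : RingHom.ker φ = K := le_antisymm (fun x hx => by
    rw [← Ideal.Quotient.eq_zero_iff_mem]
    refine (DFunLike.congr_fun h1 x).symm.trans ?_
    rw [AlgHom.comp_apply, show φ x = 0 from hx, map_zero]) hφK
  exact ⟨n, P, inferInstance, inferInstance, inferInstance, inferInstance, hP, φ, hsurj,
    hker ▸ hfg.map _⟩

theorem exists_stage_of_presentation {n : ℕ} {P : Type u} [CommRing P]
    [Algebra (MvPolynomial (Fin n) A) P] [Algebra A P] [IsScalarTower A (MvPolynomial (Fin n) A) P]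
    (hP : Hens2.IsPairHenselization (MvPolynomial (Fin n) A)
      (I.map (algebraMap A (MvPolynomial (Fin n) A))) P)
    {B : Type u} [CommRing B] [Algebra A B] (φ : P →ₐ[A] B) (hφ : Function.Surjective φ)
    (hfg : (RingHom.ker φ).FG) :
    ∃ (R : Type u) (_ : CommRing R) (_ : Algebra A R) (_ : Algebra R B) (_ : IsScalarTower A R B),
      Algebra.FinitePresentation A R ∧ Hens2.IsPairHenselization R (I.map (algebraMap A R)) B := by
  classical
  obtain ⟨G, hG⟩ := hfg
  obtain ⟨S, _, _, _, σ, g, hσ, hg⟩ := exists_nbhd_lift_finset hP G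
  choose s hs using fun x : G => hg x.1 x.2
  let K : Ideal S := Ideal.span (Set.range s)
  letI : Algebra A S := ((algebraMap (MvPolynomial (Fin n) A) S).comp (algebraMap A _)).toAlgebra
  haveI : IsScalarTower A (MvPolynomial (Fin n) A) S := IsScalarTower.of_algebraMap_eq' rfl
  letI : Algebra S P := g.toRingHom.toAlgebra
  haveI : IsScalarTower (MvPolynomial (Fin n) A) S P :=
    IsScalarTower.of_algebraMap_eq fun r => (g.commutes r).symm
  have hSP := isPairHenselization_nbhd hP hσ
  have hK := isPairHenselization_quotient hSP K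
  have hKmap : K.map (algebraMap S P) = RingHom.ker φ := by
    rw [Ideal.map_span, ← Set.range_comp, ← hG]
    congr 1
    ext x
    constructor
    · rintro ⟨y, rfl⟩
      show g (s y) ∈ _
      rw [show g (s y) = y.1 from hs y]
      exact y.2
    · exact fun hx => ⟨⟨x, hx⟩, hs ⟨x, hx⟩⟩
  haveI : Algebra.FinitePresentation A S :=
    Algebra.FinitePresentation.trans A (MvPolynomial (Fin n) A) S
  haveI : Algebra.FinitePresentation A (S ⧸ K) :=
    Algebra.FinitePresentation.quotient (Submodule.fg_span (Set.finite_range s))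
  let e : (P ⧸ K.map (algebraMap S P)) →+* B :=
    Ideal.Quotient.lift _ φ.toRingHom fun x hx => by
      have : x ∈ RingHom.ker φ := hKmap ▸ hx
      exact this
  have he : Function.Bijective e := by
    refine ⟨?_, fun b => ?_⟩
    · refine RingHom.lift_injective_of_ker_le_ideal _ _ ?_
      rw [hKmap]
      exact le_rfl
    · obtain ⟨x, rfl⟩ := hφ b
      exact ⟨Ideal.Quotient.mk _ x, rfl⟩
  letI : Algebra (S ⧸ K) B :=
    (e.comp (algebraMap (S ⧸ K) (P ⧸ K.map (algebraMap S P)))).toAlgebra
  have hAP : ∀ a, algebraMap S P (algebraMap A S a) = algebraMap A P a := fun a => by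
    rw [IsScalarTower.algebraMap_apply A (MvPolynomial (Fin n) A) S,
      ← IsScalarTower.algebraMap_apply (MvPolynomial (Fin n) A) S P,
      ← IsScalarTower.algebraMap_apply A (MvPolynomial (Fin n) A) P]
  haveI : IsScalarTower A (S ⧸ K) B := IsScalarTower.of_algebraMap_eq (R := A) (S := S ⧸ K) (A := B)
    fun a => by
      show algebraMap A B a = φ (algebraMap S P (algebraMap A S a))
      rw [hAP, φ.commutes]
  refine ⟨S ⧸ K, inferInstance, inferInstance, inferInstance, inferInstance, inferInstance, ?_⟩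
  have hI : ((I.map (algebraMap A (MvPolynomial (Fin n) A))).map (algebraMap _ S)).map
      (Ideal.Quotient.mk K) = I.map (algebraMap A (S ⧸ K)) := by
    rw [Ideal.map_map, Ideal.map_map]
    rfl
  rw [← hI]
  exact isPairHenselization_of_algEquiv
    (AlgEquiv.ofRingEquiv (f := RingEquiv.ofBijective e he) fun x => rfl) hK

/-- An algebra corepresenting a functor commuting with filtered colimits is presented. -/
theorem exists_presentation_of_limit [HenselianRing A I] {B : Type u} [CommRing B] [Algebra A B]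
    [HenselianRing B (I.map (algebraMap A B))]
    (h : ∀ (κ : Type u) [Preorder κ] [IsDirectedOrder κ] [Nonempty κ]
      (Ra : κ → Type u) [∀ a, CommRing (Ra a)] [∀ a, Algebra A (Ra a)]
      [∀ a, HenselianRing (Ra a) (I.map (algebraMap A (Ra a)))]
      (t : ∀ a b : κ, a ≤ b → (Ra a →+* Ra b)) [DirectedSystem Ra (fun a b hab => t a b hab)],
      (∀ (a b : κ) (hab : a ≤ b), (t a b hab).comp (algebraMap A (Ra a)) = algebraMap A (Ra b)) →
      ∀ [Algebra A (DirectLimit Ra t)],
      (∀ (a : κ) (x : A), algebraMap A (DirectLimit Ra t) x =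
        DirectLimit.Ring.of Ra t a (algebraMap A (Ra a) x)) →
      ∀ χ : B →ₐ[A] DirectLimit Ra t, ∃ (a : κ) (φ : B →ₐ[A] Ra a),
          ∀ x : B, DirectLimit.Ring.of Ra t a (φ x) = χ x) :
    ∃ (n : ℕ) (P : Type u) (_ : CommRing P) (_ : Algebra (MvPolynomial (Fin n) A) P) (_ : Algebra A P)
      (_ : IsScalarTower A (MvPolynomial (Fin n) A) P),
      Hens2.IsPairHenselization (MvPolynomial (Fin n) A)
        (I.map (algebraMap A (MvPolynomial (Fin n) A))) P ∧
      ∃ φ : P →ₐ[A] B, Function.Surjective φ ∧ (RingHom.ker φ).FG := by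
  classical
  -- finitely many elements generate `B` as a henselian algebra
  let Q : Finset B → Type u := fun s => MvPolynomial (Fin s.card) A
  let v : ∀ s : Finset B, Q s →ₐ[A] B := fun s => MvPolynomial.aeval fun i => (s.equivFin.symm i).1
  let P : Finset B → Type u := fun s => PairHens (Q s) (I.map (algebraMap A (Q s)))
  letI iP : ∀ s, Algebra A (P s) := fun s => ((algebraMap (Q s) (P s)).comp (algebraMap A (Q s))).toAlgebra
  haveI iT : ∀ s, IsScalarTower A (Q s) (P s) := fun s => IsScalarTower.of_algebraMap_eq' rfl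
  have hP : ∀ s, Hens2.IsPairHenselization (Q s) (I.map (algebraMap A (Q s))) (P s) := fun s =>
    isPairHenselization _ _
  choose w hw using fun s => (existsUnique_extend I (hP s) (I.map (algebraMap A B)) le_rfl (v s)).exists
  let Bs : Finset B → Subalgebra A B := fun s => (w s).range
  haveI : ∀ s, HenselianRing (Bs s) (I.map (algebraMap A (Bs s))) := fun s => by
    haveI := henselianRing_hens I (hP s)
    letI : Algebra (P s) (Bs s) := (w s).rangeRestrict.toRingHom.toAlgebra
    haveI : Algebra.IsIntegral (P s) (Bs s) :=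
      Algebra.IsIntegral.of_surjective (Algebra.ofId (P s) (Bs s)) (w s).rangeRestrict_surjective
    have := Groth.L05.henselianRing_map_of_isIntegral (I.map (algebraMap A (P s))) (Bs s)
    rwa [Ideal.map_map, show (algebraMap (P s) (Bs s)).comp (algebraMap A (P s)) = algebraMap A (Bs s)
      from (w s).rangeRestrict.comp_algebraMap] at this
  have hwX : ∀ s : Finset B, ∀ b ∈ s, b ∈ Bs s := fun s b hb => by
    refine ⟨algebraMap (Q s) (P s) (MvPolynomial.X (s.equivFin ⟨b, hb⟩)), ?_⟩
    exact (DFunLike.congr_fun (hw s) _).trans (by simp [v, Q])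
  have hmono : ∀ s t, s ≤ t → Bs s ≤ Bs t := by
    intro s t hst
    let ρ : Q s →ₐ[A] P t := MvPolynomial.aeval fun i =>
      algebraMap (Q t) (P t) (MvPolynomial.X (t.equivFin ⟨(s.equivFin.symm i).1, hst (s.equivFin.symm i).2⟩))
    haveI := henselianRing_hens I (hP t)
    obtain ⟨ρ', hρ', -⟩ := existsUnique_extend I (hP s) (I.map (algebraMap A (P t))) le_rfl ρ
    have : (w t).comp ρ' = w s := algHom_ext_hens I (hP s) (I.map (algebraMap A B)) le_rfl fun q => by
      rw [AlgHom.comp_apply]
      refine (congrArg (w t) (DFunLike.congr_fun hρ' q)).trans ?_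
      refine Eq.trans ?_ (DFunLike.congr_fun (hw s) q).symm
      refine DFunLike.congr_fun (MvPolynomial.algHom_ext (f := (w t).comp ρ) (g := v s) fun i => ?_) q
      simp only [ρ, AlgHom.comp_apply, MvPolynomial.aeval_X]
      exact (DFunLike.congr_fun (hw t) _).trans (by simp [v, Q])
    rintro x ⟨y, rfl⟩
    exact ⟨ρ' y, DFunLike.congr_fun this y⟩
  let t : ∀ a b : Finset B, a ≤ b → (Bs a →+* Bs b) := fun a b hab =>
    (Subalgebra.inclusion (hmono a b hab)).toRingHom
  haveI hsys : DirectedSystem (fun a => Bs a) (fun a b hab => t a b hab) :=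
    ⟨fun i x => Subtype.ext rfl, fun k j i hij hjk x => Subtype.ext rfl⟩
  letI : Algebra A (DirectLimit (fun a => Bs a) t) :=
    ((DirectLimit.Ring.of (fun a => Bs a) t ∅).comp (algebraMap A (Bs ∅))).toAlgebra
  have halg : ∀ a x, algebraMap A (DirectLimit (fun a => Bs a) t) x =
      DirectLimit.Ring.of (fun a => Bs a) t a (algebraMap A (Bs a) x) := fun a x => by
    show DirectLimit.Ring.of (fun a => Bs a) t ∅ _ = _
    rw [← DirectLimit.Ring.of_f (G := fun a => Bs a) (f := t) (Finset.empty_subset a)
      (algebraMap A (Bs ∅) x)]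
    rfl
  let val : DirectLimit (fun a => Bs a) t →+* B :=
    DirectLimit.Ring.lift (fun a => Bs a) t B (fun a => (Bs a).val.toRingHom) fun i j hij x => rfl
  have hval : Function.Bijective val := by
    refine ⟨fun x y => ?_, fun b => ⟨DirectLimit.Ring.of (fun a => Bs a) t {b}
      ⟨b, hwX {b} b (Finset.mem_singleton_self b)⟩, rfl⟩⟩
    induction x, y using DirectLimit.induction₂ with
    | _ i x y => exact fun hxy => congrArg (DirectLimit.Ring.of (fun a => Bs a) t i) (Subtype.ext hxy)
  let eL := RingEquiv.ofBijective val hval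
  let χ : B →ₐ[A] DirectLimit (fun a => Bs a) t :=
    { eL.symm.toRingHom with
      commutes' := fun a => eL.injective <| by
        show eL (eL.symm (algebraMap A B a)) = eL (algebraMap A _ a)
        rw [eL.apply_symm_apply, halg ∅]
        rfl }
  obtain ⟨s, φ, hφ⟩ := h (Finset B) (fun a => Bs a) t (fun a b hab => RingHom.ext fun x => rfl) halg χ
  have hws : Function.Surjective (w s) := fun b => by
    have h1 := congrArg val (hφ b)
    have h2 : val (DirectLimit.Ring.of (fun a => Bs a) t s (φ b)) = (φ b).1 := rfl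
    rw [h2, show val (χ b) = b from eL.apply_symm_apply b] at h1
    obtain ⟨y, hy⟩ := (φ b).2
    exact ⟨y, hy.trans h1⟩
  -- the kernel is the ideal of a finite set
  refine ⟨s.card, P s, inferInstance, inferInstance, inferInstance, inferInstance, hP s, w s, hws, ?_⟩
  haveI := henselianRing_hens I (hP s)
  let K := RingHom.ker (w s)
  let Pq : Finset K → Type u := fun F => P s ⧸ Ideal.span ((fun k : K => (k : P s)) '' (F : Set K))
  haveI : ∀ F, HenselianRing (Pq F) (I.map (algebraMap A (Pq F))) := fun F => by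
    have := Groth.L05.henselianRing_quotient (I.map (algebraMap A (P s)))
      (Ideal.span ((fun k : K => (k : P s)) '' (F : Set K)))
    rwa [Ideal.map_map] at this
  have hle : ∀ F : Finset K, Ideal.span ((fun k : K => (k : P s)) '' (F : Set K)) ≤ K := fun F =>
    Ideal.span_le.mpr (by rintro _ ⟨k, -, rfl⟩; exact k.2)
  let u : ∀ a b : Finset K, a ≤ b → (Pq a →+* Pq b) := fun a b hab =>
    Ideal.Quotient.factor (Ideal.span_mono (Set.image_mono (Finset.coe_subset.mpr hab)))
  haveI : DirectedSystem Pq (fun a b hab => u a b hab) :=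
    ⟨fun i x => by obtain ⟨y, rfl⟩ := Ideal.Quotient.mk_surjective x; rfl,
      fun k j i hij hjk x => by obtain ⟨y, rfl⟩ := Ideal.Quotient.mk_surjective x; rfl⟩
  letI : Algebra A (DirectLimit Pq u) :=
    ((DirectLimit.Ring.of Pq u ∅).comp (algebraMap A (Pq ∅))).toAlgebra
  have halg' : ∀ a x, algebraMap A (DirectLimit Pq u) x =
      DirectLimit.Ring.of Pq u a (algebraMap A (Pq a) x) := fun a x => by
    show DirectLimit.Ring.of Pq u ∅ _ = _
    rw [← DirectLimit.Ring.of_f (G := Pq) (f := u) (Finset.empty_subset a) (algebraMap A (Pq ∅) x)]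
    rfl
  let pr : DirectLimit Pq u →+* B :=
    DirectLimit.Ring.lift Pq u B
      (fun F => Ideal.Quotient.lift _ (w s).toRingHom fun x hx => hle F hx)
      fun i j hij x => by obtain ⟨y, rfl⟩ := Ideal.Quotient.mk_surjective x; rfl
  have hpr : Function.Bijective pr := by
    refine ⟨fun x y => ?_, fun b => ?_⟩
    · induction x, y using DirectLimit.induction₂ with
      | _ i x y =>
        intro hxy
        obtain ⟨x, rfl⟩ := Ideal.Quotient.mk_surjective x
        obtain ⟨y, rfl⟩ := Ideal.Quotient.mk_surjective y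
        have hk : x - y ∈ K := RingHom.mem_ker.mpr (by rw [map_sub]; exact sub_eq_zero.mpr hxy)
        show DirectLimit.Ring.of Pq u i _ = DirectLimit.Ring.of Pq u i _
        rw [← DirectLimit.Ring.of_f (G := Pq) (f := u) (Finset.subset_insert ⟨x - y, hk⟩ i),
          ← DirectLimit.Ring.of_f (G := Pq) (f := u) (Finset.subset_insert ⟨x - y, hk⟩ i)
            (Ideal.Quotient.mk _ y)]
        congr 1
        exact Ideal.Quotient.eq.mpr (Ideal.subset_span ⟨⟨x - y, hk⟩, by simp, rfl⟩)
    · obtain ⟨x, rfl⟩ := hws b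
      exact ⟨DirectLimit.Ring.of Pq u ∅ (Ideal.Quotient.mk _ x), rfl⟩
  let eP := RingEquiv.ofBijective pr hpr
  let χ' : B →ₐ[A] DirectLimit Pq u :=
    { eP.symm.toRingHom with
      commutes' := fun a => eP.injective <| by
        show eP (eP.symm (algebraMap A B a)) = eP (algebraMap A _ a)
        rw [eP.apply_symm_apply, halg' ∅]
        exact ((w s).commutes a).symm }
  obtain ⟨F, ψ, hψ⟩ := h (Finset K) Pq u
    (fun a b hab => RingHom.ext fun x => rfl) halg' χ'
  choose c hc using fun i : Fin s.card =>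
    Ideal.Quotient.mk_surjective (ψ (w s (algebraMap (Q s) (P s) (MvPolynomial.X i))))
  have hwψ : ∀ b y, Ideal.Quotient.mk _ y = ψ b → w s y = b := fun b y hy => by
    have h1 := congrArg pr (hψ b)
    rw [show pr (χ' b) = b from eP.apply_symm_apply b, ← hy] at h1
    exact h1
  let G : Finset (P s) := F.image (fun k : K => (k : P s)) ∪
    Finset.univ.image (fun i => algebraMap (Q s) (P s) (MvPolynomial.X i) - c i)
  refine ⟨G, le_antisymm (Ideal.span_le.mpr fun x hx => ?_) ?_⟩
  · rcases Finset.mem_union.mp hx with hx | hx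
    · obtain ⟨k, -, rfl⟩ := Finset.mem_image.mp hx
      exact k.2
    · obtain ⟨i, -, rfl⟩ := Finset.mem_image.mp hx
      show w s (_ - _) = 0
      rw [map_sub, hwψ _ _ (hc i), sub_self]
  intro k hk
  set N := Ideal.span (G : Set (P s))
  haveI : HenselianRing (P s ⧸ N) (I.map (algebraMap A (P s ⧸ N))) := by
    have := Groth.L05.henselianRing_quotient (I.map (algebraMap A (P s))) N
    rwa [Ideal.map_map] at this
  let f : Pq F →ₐ[A] P s ⧸ N := Ideal.Quotient.factorₐ A (Ideal.span_mono (by
    rintro _ ⟨y, hy, rfl⟩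
    exact Finset.mem_union_left _ (Finset.mem_image_of_mem _ hy)))
  have key : (f.comp ψ).comp (w s) = Ideal.Quotient.mkₐ A N :=
    algHom_ext_hens I (hP s) (I.map (algebraMap A (P s ⧸ N))) le_rfl fun q => by
      refine DFunLike.congr_fun (MvPolynomial.algHom_ext
        (f := ((f.comp ψ).comp (w s)).comp (IsScalarTower.toAlgHom A (Q s) (P s)))
        (g := (Ideal.Quotient.mkₐ A N).comp (IsScalarTower.toAlgHom A (Q s) (P s))) fun i => ?_) q
      show f (ψ (w s (algebraMap (Q s) (P s) (MvPolynomial.X i)))) =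
        Ideal.Quotient.mk N (algebraMap (Q s) (P s) (MvPolynomial.X i))
      rw [show ψ (w s (algebraMap (Q s) (P s) (MvPolynomial.X i))) = _ from (hc i).symm]
      refine Eq.symm (Ideal.Quotient.eq.mpr (Ideal.subset_span ?_))
      exact Finset.mem_union_right _ (Finset.mem_image_of_mem _ (Finset.mem_univ i))
  rw [← Ideal.Quotient.eq_zero_iff_mem]
  refine (DFunLike.congr_fun key k).symm.trans ?_
  rw [AlgHom.comp_apply, show w s k = 0 from hk, map_zero]

end Groth.L05.Hfp

namespace Groth.L05.Hfp

universe u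

open Groth.L05.Henselization

theorem bijective_dirLim_of_hens {A : Type u} [CommRing A] (I : Ideal A) {R B : Type u} [CommRing R]
    [Algebra A R] [Algebra.FinitePresentation A R] [CommRing B] [Algebra R B] [Algebra A B]
    [IsScalarTower A R B] (hB : Hens2.IsPairHenselization R (I.map (algebraMap A R)) B)
    {κ : Type u} [Preorder κ] [IsDirectedOrder κ] [Nonempty κ]
    {Ra : κ → Type u} [∀ a, CommRing (Ra a)] [∀ a, Algebra A (Ra a)]
    [∀ a, HenselianRing (Ra a) (I.map (algebraMap A (Ra a)))]
    {t : ∀ a b : κ, a ≤ b → (Ra a →+* Ra b)} [DirectedSystem Ra (fun a b h => t a b h)]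
    (ht : ∀ (a b : κ) (h : a ≤ b), (t a b h).comp (algebraMap A (Ra a)) = algebraMap A (Ra b))
    [Algebra A (DirectLimit Ra t)]
    (halg : ∀ (a : κ) (x : A), algebraMap A (DirectLimit Ra t) x =
      DirectLimit.Ring.of Ra t a (algebraMap A (Ra a) x)) :
    (∀ χ : B →ₐ[A] DirectLimit Ra t, ∃ (a : κ) (φ : B →ₐ[A] Ra a),
        ∀ x : B, DirectLimit.Ring.of Ra t a (φ x) = χ x) ∧
    ∀ (a : κ) (φ ψ : B →ₐ[A] Ra a),
      (∀ x : B, DirectLimit.Ring.of Ra t a (φ x) = DirectLimit.Ring.of Ra t a (ψ x)) →
      ∃ (b : κ) (h : a ≤ b), ∀ x : B, t a b h (φ x) = t a b h (ψ x) := by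
  classical
  refine ⟨fun χ => ?_, fun a φ ψ h => ?_⟩
  · obtain ⟨a, φ₀, hφ₀⟩ := exists_algHom_stage ht halg R (χ.comp (IsScalarTower.toAlgHom A R B))
    obtain ⟨φ, hφ, -⟩ := existsUnique_extend I hB (I.map (algebraMap A (Ra a))) le_rfl φ₀
    refine ⟨a, φ, fun x => ?_⟩
    let ofA : Ra a →ₐ[A] DirectLimit Ra t :=
      { DirectLimit.Ring.of Ra t a with commutes' := fun y => (halg a y).symm }
    have hle : I.map (algebraMap A (DirectLimit Ra t)) ≤
        ⨆ b, (I.map (algebraMap A (Ra b))).map (DirectLimit.Ring.of Ra t b) := by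
      refine le_trans (le_of_eq ?_)
        (le_iSup (fun b => (I.map (algebraMap A (Ra b))).map (DirectLimit.Ring.of Ra t b)) a)
      rw [Ideal.map_map]
      congr 1
      exact RingHom.ext fun y => halg a y
    haveI := henselianRing_dirLim (g := t) (fun b => I.map (algebraMap A (Ra b)))
      (fun i j hij => by rw [Ideal.map_map, ht]) fun b => inferInstance
    have := algHom_ext_hens I hB _ hle (φ := ofA.comp φ) (ψ := χ) fun r => by
      show DirectLimit.Ring.of Ra t a (φ (algebraMap R B r)) = _
      rw [show φ (algebraMap R B r) = φ₀ r from DFunLike.congr_fun hφ r, hφ₀]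
      rfl
    exact DFunLike.congr_fun this x
  · obtain ⟨n, π, hπ, -⟩ := Algebra.FinitePresentation.out (R := A) (A := R)
    obtain ⟨b, hab, hb⟩ := exists_stage_eq (t := t)
      (Finset.univ.image fun i => algebraMap R B (π (MvPolynomial.X i))) φ ψ fun x _ => h x
    let tA : Ra a →ₐ[A] Ra b :=
      { t a b hab with commutes' := fun y => DFunLike.congr_fun (ht a b hab) y }
    have := algHom_ext_hens I hB (I.map (algebraMap A (Ra b))) le_rfl
      (φ := tA.comp φ) (ψ := tA.comp ψ) fun r => by
        obtain ⟨q, rfl⟩ := hπ r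
        refine DFunLike.congr_fun (MvPolynomial.algHom_ext
          (f := ((tA.comp φ).comp (IsScalarTower.toAlgHom A R B)).comp π)
          (g := ((tA.comp ψ).comp (IsScalarTower.toAlgHom A R B)).comp π) fun i => ?_) q
        exact hb _ (Finset.mem_image_of_mem _ (Finset.mem_univ i))
    exact ⟨b, hab, fun x => DFunLike.congr_fun this x⟩

end Groth.L05.Hfp
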