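import Groth.Agent.L05.Hfp.Basic
import Groth.Agent.L05.Henselization.DirLim
import Mathlib.RingTheory.MvPolynomial.Basic

/-!
# Finite presentation of henselizations: stages and limits
-/

open TensorProduct

namespace Groth.L05.Hfp

universe u

open Groth.L05.Henselization

variable {A : Type u} [CommRing A] (I : Ideal A) {R B : Type u} [CommRing R] [Algebra A R]
  [CommRing B] [Algebra R B] [Algebra A B] [IsScalarTower A R B]
  (hB : Hens2.IsPairHenselization R (I.map (algebraMap A R)) B)

section FpLimit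

omit [CommRing R] [Algebra A R] [CommRing B] [Algebra R B] [Algebra A B] [IsScalarTower A R B]

variable {κ : Type u} [Preorder κ] [IsDirectedOrder κ] [Nonempty κ]
  {Ra : κ → Type u} [∀ a, CommRing (Ra a)] [∀ a, Algebra A (Ra a)]
  {t : ∀ a b : κ, a ≤ b → (Ra a →+* Ra b)} [DirectedSystem Ra (fun a b h => t a b h)]

theorem exists_stage_eq {S : Type u} (s : Finset S) {a : κ} (φ ψ : S → Ra a)
    (h : ∀ x ∈ s, DirectLimit.Ring.of Ra t a (φ x) = DirectLimit.Ring.of Ra t a (ψ x)) :
    ∃ (b : κ) (hab : a ≤ b), ∀ x ∈ s, t a b hab (φ x) = t a b hab (ψ x) := by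
  classical
  induction s using Finset.induction with
  | empty => exact ⟨a, le_rfl, by simp⟩
  | insert x s hx ih =>
    obtain ⟨b, hab, hb⟩ := ih fun y hy => h y (Finset.mem_insert_of_mem hy)
    obtain ⟨c, h₁, h₂, hc⟩ := Quotient.exact (h x (Finset.mem_insert_self x s))
    obtain ⟨d, hbd, hcd⟩ := exists_ge_ge b c
    refine ⟨d, hab.trans hbd, fun y hy => ?_⟩
    rcases Finset.mem_insert.mp hy with rfl | hy
    · have h₂' := congrArg (t c d hcd) hc
      rw [DirectedSystem.map_map' (f := fun i j h => t i j h),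
        DirectedSystem.map_map' (f := fun i j h => t i j h)] at h₂'
      exact h₂'
    · have h₂' := congrArg (t b d hbd) (hb y hy)
      rw [DirectedSystem.map_map' (f := fun i j h => t i j h),
        DirectedSystem.map_map' (f := fun i j h => t i j h)] at h₂'
      exact h₂'

variable (ht : ∀ (a b : κ) (h : a ≤ b), (t a b h).comp (algebraMap A (Ra a)) = algebraMap A (Ra b))
  [Algebra A (DirectLimit Ra t)]
  (halg : ∀ (a : κ) (x : A), algebraMap A (DirectLimit Ra t) x =
    DirectLimit.Ring.of Ra t a (algebraMap A (Ra a) x))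

include ht halg

theorem exists_algHom_stage (S : Type u) [CommRing S] [Algebra A S] [Algebra.FinitePresentation A S]
    (χ : S →ₐ[A] DirectLimit Ra t) :
    ∃ (a : κ) (φ : S →ₐ[A] Ra a), ∀ x, DirectLimit.Ring.of Ra t a (φ x) = χ x := by
  classical
  obtain ⟨n, π, hπ, G, hG⟩ := Algebra.FinitePresentation.out (R := A) (A := S)
  obtain ⟨a, ha⟩ := exists_lift_finset_dirLim (Finset.univ.image fun i => χ (π (MvPolynomial.X i)))
  choose y hy using fun i => ha _ (Finset.mem_image_of_mem _ (Finset.mem_univ i))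
  let ofA : ∀ b, Ra b →ₐ[A] DirectLimit Ra t := fun b =>
    { DirectLimit.Ring.of Ra t b with commutes' := fun x => (halg b x).symm }
  have hc : (ofA a).comp (MvPolynomial.aeval y) = χ.comp π :=
    MvPolynomial.algHom_ext fun i => by
      show DirectLimit.Ring.of Ra t a (MvPolynomial.aeval y (MvPolynomial.X i)) = _
      rw [MvPolynomial.aeval_X]
      exact hy i
  obtain ⟨b, hab, hb⟩ := exists_stage_eq (t := t) G (MvPolynomial.aeval y) (fun _ => (0 : Ra a))
    fun q hq => by
      rw [map_zero]
      refine (DFunLike.congr_fun hc q).trans ?_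
      show χ (π q) = 0
      rw [show π q = 0 from (hG.le (Ideal.subset_span hq) : q ∈ RingHom.ker π), map_zero]
  let tA : Ra a →ₐ[A] Ra b :=
    { t a b hab with commutes' := fun x => DFunLike.congr_fun (ht a b hab) x }
  have hle : RingHom.ker π ≤ RingHom.ker (tA.comp (MvPolynomial.aeval y)) := fun q hq =>
    (Ideal.span_le.mpr fun p hp => (hb p hp).trans (map_zero _) :
      Ideal.span (G : Set (MvPolynomial (Fin n) A)) ≤
        RingHom.ker (tA.comp (MvPolynomial.aeval y))) (hG.ge hq)
  refine ⟨b, AlgHom.liftOfSurjective π hπ _ hle, fun x => ?_⟩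
  obtain ⟨q, rfl⟩ := hπ x
  rw [AlgHom.liftOfSurjective_apply, AlgHom.comp_apply]
  show DirectLimit.Ring.of Ra t b (t a b hab (MvPolynomial.aeval y q)) = _
  rw [DirectLimit.Ring.of_f]
  exact DFunLike.congr_fun hc q

end FpLimit

include hB

theorem exists_stage_comp [Algebra.FinitePresentation A R] {S : Type u} [CommRing S] [Algebra B S]
    [Algebra A S] [IsScalarTower A B S] [Algebra.FinitePresentation B S]
    {C : Type u} [CommRing C] [Algebra S C] [Algebra B C] [Algebra A C] [IsScalarTower B S C]
    [IsScalarTower A B C] (hC : Hens2.IsPairHenselization S (I.map (algebraMap A S)) C) :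
    ∃ (T : Type u) (_ : CommRing T) (_ : Algebra A T) (_ : Algebra T C) (_ : IsScalarTower A T C),
      Algebra.FinitePresentation A T ∧ Hens2.IsPairHenselization T (I.map (algebraMap A T)) C := by
  classical
  obtain ⟨n, π, hπ, G, hG⟩ := Algebra.FinitePresentation.out (R := B) (A := S)
  obtain ⟨R', _, _, _, σ, g, hσ, hg⟩ := exists_nbhd_lift_finset hB (G.biUnion fun q => q.coeffs)
  letI : Algebra A R' := ((algebraMap R R').comp (algebraMap A R)).toAlgebra
  haveI : IsScalarTower A R R' := IsScalarTower.of_algebraMap_eq' rfl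
  letI : Algebra R' B := g.toRingHom.toAlgebra
  haveI : IsScalarTower R R' B := IsScalarTower.of_algebraMap_eq fun r => (g.commutes r).symm
  haveI : IsScalarTower A R' B := IsScalarTower.of_algebraMap_eq fun a => by
    rw [IsScalarTower.algebraMap_apply A R B, IsScalarTower.algebraMap_apply A R R',
      ← IsScalarTower.algebraMap_apply R R' B]
  have hlift : ∀ q ∈ G, ∃ q' : MvPolynomial (Fin n) R', MvPolynomial.map (algebraMap R' B) q' = q := by
    intro q hq
    refine MvPolynomial.mem_range_map_iff_coeffs_subset.mpr fun c hc => ?_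
    obtain ⟨y, hy⟩ := hg c (Finset.mem_biUnion.mpr ⟨q, hq, hc⟩)
    exact ⟨y, hy⟩
  choose q' hq' using hlift
  let G' : Finset (MvPolynomial (Fin n) R') := G.attach.image fun q => q' q.1 q.2
  haveI : Algebra.FinitePresentation R (R' : Type u) := inferInstance
  haveI : Algebra.FinitePresentation A R' := Algebra.FinitePresentation.trans A R R'
  let T := MvPolynomial (Fin n) R' ⧸ Ideal.span (G' : Set (MvPolynomial (Fin n) R'))
  haveI : Algebra.FinitePresentation R' T :=
    Algebra.FinitePresentation.quotient (Submodule.fg_span G'.finite_toSet)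
  haveI : Algebra.FinitePresentation A T := Algebra.FinitePresentation.trans A R' T
  let α : MvPolynomial (Fin n) R' →+* S := π.toRingHom.comp (MvPolynomial.map (algebraMap R' B))
  have hα : ∀ z ∈ Ideal.span (G' : Set (MvPolynomial (Fin n) R')), α z = 0 := fun z hz => by
    refine (Ideal.span_le.mpr ?_ : _ ≤ RingHom.ker α) hz
    rintro _ hx
    obtain ⟨q, -, rfl⟩ := Finset.mem_image.mp hx
    show π (MvPolynomial.map _ (q' q.1 q.2)) = 0
    rw [hq']
    exact hG.le (Ideal.subset_span q.2)
  let β : T →+* S := Ideal.Quotient.lift _ α hα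
  letI : Algebra T C := ((algebraMap S C).comp β).toAlgebra
  have hβR : ∀ x : R', β (algebraMap R' T x) = algebraMap B S (algebraMap R' B x) := fun x => by
    show π (MvPolynomial.map _ (MvPolynomial.C x)) = _
    rw [MvPolynomial.map_C]
    exact π.commutes _
  have hβA : ∀ a, β (algebraMap A T a) = algebraMap A S a := fun a => by
    rw [IsScalarTower.algebraMap_apply A R' T, hβR, ← IsScalarTower.algebraMap_apply A R' B,
      ← IsScalarTower.algebraMap_apply A B S]
  have hAC : ∀ a, algebraMap A C a = algebraMap S C (algebraMap A S a) := fun a => by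
    rw [IsScalarTower.algebraMap_apply A B S, ← IsScalarTower.algebraMap_apply B S C,
      ← IsScalarTower.algebraMap_apply A B C]
  haveI : IsScalarTower A T C := IsScalarTower.of_algebraMap_eq (R := A) (S := T) (A := C) fun a => by
    show algebraMap A C a = algebraMap S C (β (algebraMap A T a))
    rw [hAC, hβA]
  refine ⟨T, inferInstance, inferInstance, inferInstance, inferInstance, inferInstance, ?_, ?_⟩
  · have e : (I.map (algebraMap A T)).map (algebraMap T C) =
        (I.map (algebraMap A S)).map (algebraMap S C) := by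
      rw [Ideal.map_map, Ideal.map_map]
      congr 1
      exact RingHom.ext fun a => congrArg (algebraMap S C) (hβA a)
    exact e ▸ hC.1
  intro C' _ J f hC' hf
  haveI := hC'
  letI : Algebra A C' := (f.comp (algebraMap A T)).toAlgebra
  have hJ : I.map (algebraMap A C') ≤ J := by
    show I.map (f.comp (algebraMap A T)) ≤ J
    rw [← Ideal.map_map]
    exact hf
  let fR : R →ₐ[A] C' :=
    { (f.comp (algebraMap R' T)).comp (algebraMap R R') with
      commutes' := fun a => by
        show f (algebraMap R' T (algebraMap R R' (algebraMap A R a))) = _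
        rw [← IsScalarTower.algebraMap_apply, ← IsScalarTower.algebraMap_apply]
        rfl }
  obtain ⟨gB, hgB, hgBu⟩ := existsUnique_extend I hB J hJ fR
  have hgR' : ∀ x : R', gB (algebraMap R' B x) = f (algebraMap R' T x) := by
    intro x
    letI : Algebra R C' := fR.toRingHom.toAlgebra
    obtain ⟨_, -, hu⟩ := existsUnique_algHom_of_section (I.map (algebraMap A R)) hσ J (by
      rw [Ideal.map_map]
      show I.map (fR.toRingHom.comp (algebraMap A R)) ≤ J
      rw [show fR.toRingHom.comp (algebraMap A R) = algebraMap A C' from fR.comp_algebraMap]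
      exact hJ)
    let k₁ : R' →ₐ[R] C' := { gB.toRingHom.comp (algebraMap R' B) with
      commutes' := fun r => by
        show gB (algebraMap R' B (algebraMap R R' r)) = _
        rw [← IsScalarTower.algebraMap_apply]
        exact DFunLike.congr_fun hgB r }
    let k₂ : R' →ₐ[R] C' := { f.comp (algebraMap R' T) with commutes' := fun r => rfl }
    exact DFunLike.congr_fun ((hu k₁ trivial).trans (hu k₂ trivial).symm) x
  let y : Fin n → C' := fun i => f (Ideal.Quotient.mk _ (MvPolynomial.X i))
  let ev : MvPolynomial (Fin n) B →+* C' := MvPolynomial.eval₂Hom gB.toRingHom y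
  have hev : ev.comp (MvPolynomial.map (algebraMap R' B)) = f.comp (Ideal.Quotient.mk _) := by
    refine MvPolynomial.ringHom_ext (fun x => ?_) fun i => ?_
    · simp only [ev, RingHom.comp_apply, MvPolynomial.map_C, MvPolynomial.eval₂Hom_C]
      exact hgR' x
    · simp [ev, y]
  have hevG : ∀ z ∈ RingHom.ker π.toRingHom, ev z = 0 := fun z hz => by
    refine ((Ideal.span_le.mpr ?_ : Ideal.span (G : Set _) ≤ RingHom.ker ev) (hG.ge hz))
    intro q hq
    show ev q = 0
    rw [← hq' q hq, ← RingHom.comp_apply ev, hev, RingHom.comp_apply,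
      Ideal.Quotient.eq_zero_iff_mem.mpr (Ideal.subset_span (Finset.mem_image.mpr
        ⟨⟨q, hq⟩, Finset.mem_attach _ _, rfl⟩)), map_zero]
  let fS : S →+* C' := RingHom.liftOfSurjective π.toRingHom hπ ⟨ev, hevG⟩
  have hfS : ∀ z, fS (π z) = ev z := fun z =>
    RingHom.liftOfSurjective_comp_apply π.toRingHom hπ ⟨ev, hevG⟩ z
  have hfSB : ∀ b, fS (algebraMap B S b) = gB b := fun b => by
    rw [← π.commutes b, hfS, MvPolynomial.algebraMap_eq]
    simp [ev]
  have hfSβ : fS.comp β = f := by
    refine Ideal.Quotient.ringHom_ext ?_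
    rw [← hev]
    refine RingHom.ext fun z => ?_
    exact hfS _
  have hfSI : (I.map (algebraMap A S)).map fS ≤ J := by
    rw [Ideal.map_map]
    refine le_of_eq_of_le ?_ hJ
    congr 1
    exact RingHom.ext fun a => by
      show fS (algebraMap A S a) = _
      rw [IsScalarTower.algebraMap_apply A B S, hfSB]
      exact gB.commutes a
  obtain ⟨gC, hgC, hgCu⟩ := hC.2 C' J fS hC' hfSI
  refine ⟨gC, ?_, fun g₂ hg₂ => hgCu g₂ ?_⟩
  · show gC.comp ((algebraMap S C).comp β) = f
    rw [← RingHom.comp_assoc, hgC, hfSβ]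
  have hg₂' : ∀ z, g₂ (algebraMap S C (β z)) = f z := fun z => DFunLike.congr_fun hg₂ z
  let gB₂ : B →ₐ[A] C' :=
    { (g₂.comp (algebraMap S C)).comp (algebraMap B S) with
      commutes' := fun a => by
        show g₂ (algebraMap S C (algebraMap B S (algebraMap A B a))) = _
        rw [← IsScalarTower.algebraMap_apply A B S, ← hβA, hg₂']
        rfl }
  have hB₂ : gB₂ = gB := hgBu gB₂ (AlgHom.ext fun r => by
    show g₂ (algebraMap S C (algebraMap B S (algebraMap R B r))) = f (algebraMap R' T (algebraMap R R' r))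
    rw [IsScalarTower.algebraMap_apply R R' B, ← hβR, hg₂'])
  show g₂.comp (algebraMap S C) = fS
  refine RingHom.ext fun z => ?_
  obtain ⟨p, rfl⟩ := hπ z
  rw [hfS]
  refine DFunLike.congr_fun (MvPolynomial.ringHom_ext (f := (g₂.comp (algebraMap S C)).comp π.toRingHom)
    (g := ev) (fun b => ?_) fun i => ?_) p
  · simp only [ev, MvPolynomial.eval₂Hom_C, RingHom.comp_apply]
    show g₂ (algebraMap S C (π (MvPolynomial.C b))) = gB b
    rw [← MvPolynomial.algebraMap_eq, π.commutes, ← hB₂]
    rfl
  · simp only [ev, MvPolynomial.eval₂Hom_X', RingHom.comp_apply]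
    show g₂ (algebraMap S C (π (MvPolynomial.X i))) = f (Ideal.Quotient.mk _ (MvPolynomial.X i))
    rw [← hg₂']
    show g₂ (algebraMap S C (π (MvPolynomial.X i))) =
      g₂ (algebraMap S C (π (MvPolynomial.map _ (MvPolynomial.X i))))
    rw [MvPolynomial.map_X]

theorem exists_stage_relative [Algebra.FinitePresentation A R]
    {S : Type u} [CommRing S] [Algebra A S] [Algebra.FinitePresentation A S]
    {C : Type u} [CommRing C] [Algebra S C] [Algebra A C] [IsScalarTower A S C]
    (hC : Hens2.IsPairHenselization S (I.map (algebraMap A S)) C)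
    [Algebra B C] [IsScalarTower A B C] :
    ∃ (T : Type u) (_ : CommRing T) (_ : Algebra B T) (_ : Algebra T C) (_ : IsScalarTower B T C),
      Algebra.FinitePresentation B T ∧
      Hens2.IsPairHenselization T ((I.map (algebraMap A B)).map (algebraMap B T)) C := by
  classical
  obtain ⟨n, π, hπ, G, hG⟩ := Algebra.FinitePresentation.out (R := A) (A := R)
  let φR : R →ₐ[A] C := (IsScalarTower.toAlgHom A B C).comp (IsScalarTower.toAlgHom A R B)
  obtain ⟨S₁, _, _, _, σ₁, g₁, hσ₁, hg₁⟩ :=
    exists_nbhd_lift_finset hC (Finset.univ.image fun i => φR (π (MvPolynomial.X i)))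
  choose y hy using fun i => hg₁ _ (Finset.mem_image_of_mem _ (Finset.mem_univ i))
  letI : Algebra A S₁ := ((algebraMap S S₁).comp (algebraMap A S)).toAlgebra
  haveI : IsScalarTower A S S₁ := IsScalarTower.of_algebraMap_eq' rfl
  have hev : (g₁.restrictScalars A).comp (MvPolynomial.aeval y) = φR.comp π :=
    MvPolynomial.algHom_ext fun i => by
      show g₁ (MvPolynomial.aeval y (MvPolynomial.X i)) = φR (π (MvPolynomial.X i))
      rw [MvPolynomial.aeval_X]
      exact hy i
  obtain ⟨S₂, _, _, _, σ₂, g₂, ψ, hσ₂, hg₂, hψ⟩ := exists_nbhd_kill_finset hC hσ₁ g₁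
    (G.image (MvPolynomial.aeval y)) (by
      intro x hx
      obtain ⟨q, hq, rfl⟩ := Finset.mem_image.mp hx
      refine (DFunLike.congr_fun hev q).trans ?_
      show φR (π q) = 0
      rw [show π q = 0 from (hG.le (Ideal.subset_span hq) : q ∈ RingHom.ker π), map_zero])
  letI : Algebra A S₂ := ((algebraMap S S₂).comp (algebraMap A S)).toAlgebra
  haveI : IsScalarTower A S S₂ := IsScalarTower.of_algebraMap_eq' rfl
  let ρ₀ : MvPolynomial (Fin n) A →ₐ[A] S₂ := (ψ.restrictScalars A).comp (MvPolynomial.aeval y)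
  have hρ₀ : RingHom.ker π ≤ RingHom.ker ρ₀ := fun q hq =>
    (Ideal.span_le.mpr fun p hp => hψ _ (Finset.mem_image_of_mem _ hp) :
      Ideal.span (G : Set (MvPolynomial (Fin n) A)) ≤ RingHom.ker ρ₀) (hG.ge hq)
  let ρ : R →ₐ[A] S₂ := AlgHom.liftOfSurjective π hπ ρ₀ hρ₀
  have hρ : ∀ r, g₂ (ρ r) = φR r := by
    intro r
    obtain ⟨q, rfl⟩ := hπ r
    rw [AlgHom.liftOfSurjective_apply]
    show g₂ (ψ (MvPolynomial.aeval y q)) = φR (π q)
    rw [← AlgHom.comp_apply g₂, hg₂]
    exact DFunLike.congr_fun hev q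
  haveI : Algebra.FinitePresentation A S₂ := Algebra.FinitePresentation.trans A S S₂
  letI : Algebra R S₂ := ρ.toRingHom.toAlgebra
  haveI : IsScalarTower A R S₂ := IsScalarTower.of_algebraMap_eq fun a => (ρ.commutes a).symm
  haveI : Algebra.FinitePresentation R S₂ :=
    Algebra.FinitePresentation.of_restrict_scalars_finitePresentation A R S₂
  letI : Algebra R C := φR.toRingHom.toAlgebra
  let fB : B →ₐ[R] C :=
    { algebraMap B C with
      commutes' := fun r => rfl }
  let fS : S₂ →ₐ[R] C := { g₂.toRingHom with commutes' := fun r => hρ r }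
  let τ : B ⊗[R] S₂ →ₐ[R] C := Algebra.TensorProduct.lift fB fS fun _ _ => Commute.all _ _
  letI : Algebra (B ⊗[R] S₂) C := τ.toRingHom.toAlgebra
  haveI : IsScalarTower B (B ⊗[R] S₂) C := IsScalarTower.of_algebraMap_eq fun b => by
    show algebraMap B C b = τ (b ⊗ₜ[R] 1)
    simp [τ, fB, fS]
  refine ⟨B ⊗[R] S₂, inferInstance, inferInstance, inferInstance, inferInstance, inferInstance, ?_, ?_⟩
  · rw [Ideal.map_map, ← IsScalarTower.algebraMap_eq, Ideal.map_map, ← IsScalarTower.algebraMap_eq]
    exact henselianRing_hens I hC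
  intro C' _ J f hC' hf
  haveI := hC'
  rw [Ideal.map_map, Ideal.map_map] at hf
  letI : Algebra A C' := ((f.comp (algebraMap B (B ⊗[R] S₂))).comp (algebraMap A B)).toAlgebra
  have hJ : I.map (algebraMap A C') ≤ J := hf
  have hTA : ∀ a, f ((1 : B) ⊗ₜ[R] algebraMap A S₂ a) = algebraMap A C' a := fun a => by
    show _ = f (algebraMap A B a ⊗ₜ[R] 1)
    congr 1
    rw [IsScalarTower.algebraMap_apply A R S₂, IsScalarTower.algebraMap_apply A R B,
      Algebra.algebraMap_eq_smul_one, TensorProduct.tmul_smul, TensorProduct.smul_tmul',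
      ← Algebra.algebraMap_eq_smul_one]
  let f₂ : S₂ →+* C' := f.comp Algebra.TensorProduct.includeRight.toRingHom
  obtain ⟨h, hh, hhu⟩ := (isPairHenselization_of_tower hC hσ₂ g₂).2 C' J f₂ hC' (by
    rw [Ideal.map_map, Ideal.map_map]
    refine le_of_eq_of_le ?_ hJ
    congr 1
    exact RingHom.ext fun a => hTA a)
  let fB₁ : B →ₐ[A] C' := { h.comp (algebraMap B C) with
    commutes' := fun a => by
      show h (algebraMap B C (algebraMap A B a)) = _
      rw [← IsScalarTower.algebraMap_apply, IsScalarTower.algebraMap_apply A S C,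
        ← g₂.commutes, show h (g₂ _) = f₂ _ from DFunLike.congr_fun hh _]
      exact hTA a }
  let fB₂ : B →ₐ[A] C' := { f.comp (algebraMap B (B ⊗[R] S₂)) with commutes' := fun a => rfl }
  have hfB : fB₁ = fB₂ := algHom_ext_hens I hB J hJ fun r => by
    show h (φR r) = f (algebraMap R B r ⊗ₜ[R] 1)
    rw [← hρ, show h (g₂ (ρ r)) = f₂ (ρ r) from DFunLike.congr_fun hh (ρ r)]
    show f ((1 : B) ⊗ₜ[R] algebraMap R S₂ r) = _
    rw [Algebra.algebraMap_eq_smul_one, TensorProduct.tmul_smul, TensorProduct.smul_tmul',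
      ← Algebra.algebraMap_eq_smul_one]
  have key : ∀ z, h (τ z) = f z := fun z => by
    induction z using TensorProduct.induction_on with
    | zero => simp
    | add x y hx hy => simp only [map_add, hx, hy]
    | tmul b s =>
      rw [show τ (b ⊗ₜ[R] s) = algebraMap B C b * g₂ s by simp [τ, fB, fS], map_mul,
        show h (algebraMap B C b) = f (b ⊗ₜ[R] 1) from DFunLike.congr_fun hfB b,
        show h (g₂ s) = f ((1 : B) ⊗ₜ[R] s) from DFunLike.congr_fun hh s, ← map_mul,
        Algebra.TensorProduct.tmul_mul_tmul, mul_one, one_mul]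
  refine ⟨h, RingHom.ext key, fun h₂ hh₂ => hhu h₂ (RingHom.ext fun s => ?_)⟩
  have := DFunLike.congr_fun hh₂ ((1 : B) ⊗ₜ[R] s)
  show h₂ (g₂ s) = f ((1 : B) ⊗ₜ[R] s)
  rw [← this]
  show _ = h₂ (τ _)
  simp [τ, fB, fS]
where
  isPairHenselization_of_tower {S C : Type u} [CommRing S] [CommRing C] [Algebra S C] {K : Ideal S}
      (hC : Hens2.IsPairHenselization S K C) {S₂ : Type u} [CommRing S₂] [Algebra S S₂]
      [Algebra.Etale S S₂] {σ : S₂ →ₐ[S] S ⧸ K} (hσ : RingHom.ker σ = K.map (algebraMap S S₂))
      (g : S₂ →ₐ[S] C) :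
      @Hens2.IsPairHenselization S₂ _ (K.map (algebraMap S S₂)) C _ g.toRingHom.toAlgebra :=
    letI := g.toRingHom.toAlgebra
    haveI : IsScalarTower S S₂ C := IsScalarTower.of_algebraMap_eq fun r => (g.commutes r).symm
    isPairHenselization_nbhd hC hσ

end Groth.L05.Hfp
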