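import Groth.Agent.L05.Hfp.Finite
import Groth.Agent.L05.Hfp.Stage
import Groth.Agent.L05.Henselization.Pair
import Mathlib.RingTheory.Flat.EquationalCriterion

/-!
# Henselizations mapping onto henselian finitely presented algebras
-/

set_option autoImplicit false

universe u

namespace Groth.L05.Hfp

variable {A : Type u} [CommRing A] (I : Ideal A)

/-- The kernel of a surjection onto a flat algebra, contained in `I H`, is `I` times itself. -/
theorem ker_le_smul_ker {H B : Type u} [CommRing H] [CommRing B] [Algebra A H] [Algebra A B]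
    [Module.Flat A B] (φ : H →ₐ[A] B) (hφ : Function.Surjective φ)
    (hI : RingHom.ker φ ≤ I.map (algebraMap A H)) :
    RingHom.ker φ ≤ I.map (algebraMap A H) * RingHom.ker φ := by
  intro x hx
  have hx' : x ∈ I • (⊤ : Submodule A H) := by
    rw [Ideal.smul_top_eq_map]
    exact hI hx
  obtain ⟨n, a, h, ha, rfl⟩ : ∃ (n : ℕ) (a : Fin n → A) (h : Fin n → H),
      (∀ i, a i ∈ I) ∧ ∑ i, a i • h i = x := by
    clear hx
    refine Submodule.smul_induction_on hx' (fun c hc m _ => ⟨1, fun _ => c, fun _ => m, fun _ => hc, by simp⟩) ?_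
    rintro y z ⟨n, a, h, ha, rfl⟩ ⟨n', a', h', ha', rfl⟩
    refine ⟨n + n', Fin.append a a', Fin.append h h', fun i => ?_, ?_⟩
    · refine Fin.addCases (fun i => ?_) (fun i => ?_) i
      · rw [Fin.append_left]; exact ha i
      · rw [Fin.append_right]; exact ha' i
    · simp [Fin.sum_univ_add]
  rw [RingHom.mem_ker, map_sum] at hx
  simp only [map_smul] at hx
  obtain ⟨k, c, y, hy, hc⟩ := Module.Flat.isTrivialRelation_of_sum_smul_eq_zero hx
  choose g hg using fun j => hφ (y j)
  have hsum : ∑ i, a i • (h i - ∑ j, c i j • g j) = ∑ i, a i • h i := by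
    simp only [smul_sub, Finset.smul_sum, smul_smul, Finset.sum_sub_distrib]
    rw [Finset.sum_comm, sub_eq_self]
    refine Finset.sum_eq_zero fun j _ => ?_
    rw [← Finset.sum_smul, hc j, zero_smul]
  rw [← hsum]
  refine sum_mem fun i _ => ?_
  rw [Algebra.smul_def]
  refine Ideal.mul_mem_mul (Ideal.mem_map_of_mem _ (ha i)) ?_
  rw [RingHom.mem_ker, map_sub, map_sum]
  simp only [map_smul, hg]
  rw [← hy i, sub_self]

theorem ker_le_pow_map {H B : Type u} [CommRing H] [CommRing B] [Algebra A H] [Algebra A B]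
    (φ : H →ₐ[A] B) (hφ : Function.Surjective φ) (hI : RingHom.ker φ ≤ I.map (algebraMap A H)) (n : ℕ)
    (hflat : Module.Flat (A ⧸ I ^ n) (B ⧸ (I ^ n).map (algebraMap A B))) :
    RingHom.ker φ ≤ (I ^ n).map (algebraMap A H) := by
  rcases Nat.eq_zero_or_pos n with rfl | hn
  · simp [Ideal.one_eq_top, Ideal.map_top]
  let J := (I ^ n).map (algebraMap A H)
  let JB := (I ^ n).map (algebraMap A B)
  let ψ₀ : (H ⧸ J) →ₐ[A] B ⧸ JB := Ideal.quotientMapₐ JB φ (Ideal.map_le_iff_le_comap.mpr fun a ha => by
    show φ (algebraMap A H a) ∈ JB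
    rw [φ.commutes]
    exact Ideal.mem_map_of_mem _ ha)
  let ψ : (H ⧸ J) →ₐ[A ⧸ I ^ n] B ⧸ JB :=
    AlgHom.extendScalarsOfSurjective (S := A ⧸ I ^ n) Ideal.Quotient.mk_surjective ψ₀
  have hψ : Function.Surjective ψ := fun z => by
    obtain ⟨b, rfl⟩ := Ideal.Quotient.mk_surjective z
    obtain ⟨x, rfl⟩ := hφ b
    exact ⟨Ideal.Quotient.mk J x, rfl⟩
  have hmap : (I.map (Ideal.Quotient.mk (I ^ n))).map (algebraMap (A ⧸ I ^ n) (H ⧸ J)) =
      (I.map (algebraMap A H)).map (Ideal.Quotient.mk J) := by
    rw [Ideal.map_map, Ideal.map_map]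
    rfl
  have hJB : JB = J.map φ.toRingHom := by
    show (I ^ n).map _ = ((I ^ n).map _).map _
    rw [Ideal.map_map, show φ.toRingHom.comp (algebraMap A H) = algebraMap A B from φ.comp_algebraMap]
  have hsub : RingHom.ker ψ ≤ (I.map (Ideal.Quotient.mk (I ^ n))).map (algebraMap (A ⧸ I ^ n) (H ⧸ J)) := by
    intro z hz
    obtain ⟨x, rfl⟩ := Ideal.Quotient.mk_surjective z
    rw [hmap]
    refine Ideal.mem_map_of_mem _ ?_
    have hxB : φ x ∈ J.map φ.toRingHom := hJB ▸ Ideal.Quotient.eq_zero_iff_mem.mp hz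
    obtain ⟨y, hy, hyx⟩ := (Ideal.mem_map_iff_of_surjective φ.toRingHom hφ).mp hxB
    have hxy : x - y ∈ RingHom.ker φ := by
      rw [RingHom.mem_ker, map_sub, show φ y = φ x from hyx, sub_self]
    have hJle : J ≤ I.map (algebraMap A H) := Ideal.map_mono (Ideal.pow_le_self (by omega))
    simpa using add_mem (hI hxy) (hJle hy)
  haveI := hflat
  have hstep := ker_le_smul_ker (I.map (Ideal.Quotient.mk (I ^ n))) ψ hψ hsub
  rw [hmap] at hstep
  let J' := (I.map (algebraMap A H)).map (Ideal.Quotient.mk J)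
  have hk : ∀ k, RingHom.ker ψ ≤ J' ^ k := fun k => by
    induction k with
    | zero => simp
    | succ k ih =>
      rw [pow_succ']
      exact hstep.trans (Ideal.mul_mono le_rfl ih)
  intro x hx
  have h0 : Ideal.Quotient.mk J x ∈ RingHom.ker ψ := by
    rw [RingHom.mem_ker]
    show Ideal.Quotient.mk JB (φ x) = 0
    rw [show φ x = 0 from hx, map_zero]
  have h1 := hk n h0
  rw [← Ideal.map_pow, ← Ideal.map_pow, Ideal.map_quotient_self] at h1
  exact Ideal.Quotient.eq_zero_iff_mem.mp h1

variable [HenselianRing A I]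
  {R₀ : Type u} [CommRing R₀] [Algebra A R₀] [Algebra.FinitePresentation A R₀]
  {B : Type u} [CommRing B] [Algebra R₀ B] [Algebra A B] [IsScalarTower A R₀ B]
  (hB : Hens2.IsPairHenselization R₀ (I.map (algebraMap A R₀)) B)

include hB

/-- A finitely presented algebra with the same reduction modulo `I` has a henselization mapping onto `B`. -/
theorem exists_surjection {R : Type u} [CommRing R] [Algebra A R] [Algebra.FinitePresentation A R]
    (θ : R →ₐ[A] B) (hsur : ∀ b, ∃ r, θ r - b ∈ I.map (algebraMap A B))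
    (hker : ∀ r, θ r ∈ I.map (algebraMap A B) → r ∈ I.map (algebraMap A R)) :
    ∃ (H : Type u) (_ : CommRing H) (_ : Algebra R H) (_ : Algebra A H) (_ : IsScalarTower A R H)
      (φ : H →ₐ[A] B), Hens2.IsPairHenselization R (I.map (algebraMap A R)) H ∧
      φ.comp (IsScalarTower.toAlgHom A R H) = θ ∧ Function.Surjective φ ∧ (RingHom.ker φ).FG ∧
      RingHom.ker φ ≤ I.map (algebraMap A H) := by
  let H := Groth.L05.Henselization.PairHens R (I.map (algebraMap A R))
  letI : Algebra A H := ((algebraMap R H).comp (algebraMap A R)).toAlgebra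
  haveI : IsScalarTower A R H := IsScalarTower.of_algebraMap_eq' rfl
  have hH : Hens2.IsPairHenselization R (I.map (algebraMap A R)) H :=
    Groth.L05.Henselization.isPairHenselization R _
  haveI := henselianRing_hens I hH
  haveI := henselianRing_hens I hB
  obtain ⟨φ, hφ, -⟩ := existsUnique_extend I hH (I.map (algebraMap A B)) le_rfl θ
  have hφr : ∀ r, φ (algebraMap R H r) = θ r := fun r => DFunLike.congr_fun hφ r
  letI : Algebra H B := φ.toRingHom.toAlgebra
  haveI : IsScalarTower A H B := IsScalarTower.of_algebraMap_eq fun a => (φ.commutes a).symm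
  obtain ⟨T, _, _, _, _, _, hT⟩ := exists_stage_relative I hH hB
  have eI : (I.map (algebraMap A H)).map (algebraMap H B) = I.map (algebraMap A B) := by
    rw [Ideal.map_map, ← IsScalarTower.algebraMap_eq]
  have hq : Function.Surjective (Ideal.quotientMap ((I.map (algebraMap A H)).map (algebraMap H B))
      (algebraMap H B) Ideal.le_comap_map) := fun z => by
    obtain ⟨b, rfl⟩ := Ideal.Quotient.mk_surjective z
    obtain ⟨r, hr⟩ := hsur b
    refine ⟨Ideal.Quotient.mk _ (algebraMap R H r), ?_⟩
    rw [Ideal.quotientMap_mk, Ideal.Quotient.eq, eI]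
    show φ (algebraMap R H r) - b ∈ _
    rw [hφr]
    exact hr
  obtain ⟨e, hfin, ⟨ψ⟩⟩ := exists_algEquiv_of_quotient_finite (I.map (algebraMap A H)) hT
    (RingHom.Finite.of_surjective _ hq)
  haveI := hfin
  haveI : Module.Finite H B := Module.Finite.equiv ψ.toLinearEquiv
  have hsφ : Function.Surjective φ := surjective_of_finite (I.map (algebraMap A H)) hq
  haveI : Algebra.FinitePresentation H (T ⧸ Ideal.span ({1 - e} : Set T)) :=
    Algebra.FinitePresentation.quotient (Submodule.fg_span (Set.finite_singleton _))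
  haveI : Algebra.FinitePresentation H B := Algebra.FinitePresentation.equiv ψ
  refine ⟨H, inferInstance, inferInstance, inferInstance, inferInstance, φ, hH, hφ, hsφ,
    Algebra.FinitePresentation.ker_fG_of_surjective (Algebra.ofId H B) hsφ, fun x hx => ?_⟩
  have hb := (Groth.L05.Henselization.quotientMap_pow_bijective R (I.map (algebraMap A R)) hH 1).2
  obtain ⟨q, hq'⟩ := hb (Ideal.Quotient.mk _ x)
  obtain ⟨r, rfl⟩ := Ideal.Quotient.mk_surjective q
  rw [Ideal.quotientMap_mk, Ideal.Quotient.eq, pow_one, Ideal.map_map, ← IsScalarTower.algebraMap_eq] at hq'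
  have h1 : θ r ∈ I.map (algebraMap A B) := by
    have := Ideal.mem_map_of_mem φ.toRingHom hq'
    rw [Ideal.map_map, show φ.toRingHom.comp (algebraMap A H) = algebraMap A B from φ.comp_algebraMap] at this
    change φ (algebraMap R H r - x) ∈ _ at this
    rwa [map_sub, hφr, show φ x = 0 from hx, sub_zero] at this
  have h2 : algebraMap R H r ∈ I.map (algebraMap A H) := by
    have := Ideal.mem_map_of_mem (algebraMap R H) (hker r h1)
    rwa [Ideal.map_map, ← IsScalarTower.algebraMap_eq] at this
  simpa using sub_mem h2 hq'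

omit [Algebra.FinitePresentation A R₀] in
/-- If `B` is flat then such a surjection is bijective. -/
theorem isPairHenselization_of_surjection [Module.Flat A B] {R H : Type u} [CommRing R] [CommRing H]
    [Algebra A R] [Algebra R H] [Algebra A H] [IsScalarTower A R H] (φ : H →ₐ[A] B)
    (hH : Hens2.IsPairHenselization R (I.map (algebraMap A R)) H) (hφ : Function.Surjective φ)
    (hfg : (RingHom.ker φ).FG) (hI : RingHom.ker φ ≤ I.map (algebraMap A H)) [Algebra R B]
    [IsScalarTower A R B] (hR : ∀ r, φ (algebraMap R H r) = algebraMap R B r) :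
    Hens2.IsPairHenselization R (I.map (algebraMap A R)) B := by
  have hk : RingHom.ker φ = ⊥ := by
    refine Submodule.eq_bot_of_le_smul_of_le_jacobson_bot (I.map (algebraMap A H)) (RingHom.ker φ) hfg ?_
      (henselianRing_hens I hH).jac
    rw [smul_eq_mul]
    exact ker_le_smul_ker I φ hφ hI
  have hbij : Function.Bijective φ := ⟨(RingHom.injective_iff_ker_eq_bot _).mpr hk, hφ⟩
  let e : H ≃ₐ[R] B := AlgEquiv.ofRingEquiv (f := RingEquiv.ofBijective φ.toRingHom hbij) hR
  exact Groth.L05.Henselization.isPairHenselization_of_algEquiv e hH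

end Groth.L05.Hfp
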