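import Groth.Agent.L05.Hfp.Basic
import Groth.Agent.L05.Hensel.Perm
import Mathlib.RingTheory.Etale.Basic
import Mathlib.RingTheory.Smooth.Basic
import Mathlib.RingTheory.FinitePresentation

/-!
# Truncations of henselian finitely presented algebras, and formal smoothness for torsion test rings
-/

set_option autoImplicit false

universe u

namespace Groth.L05.Hfp

variable {A : Type u} [CommRing A] (I : Ideal A)

section Quotient

variable {R B : Type u} [CommRing R] [Algebra A R] [CommRing B] [Algebra R B] [Algebra A B] [IsScalarTower A R B]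
  (hB : Hens2.IsPairHenselization R (I.map (algebraMap A R)) B)

include hB

theorem nonempty_algEquiv_truncation {r : ℕ} :
    Nonempty ((R ⧸ (I ^ r).map (algebraMap A R)) ≃ₐ[A] (B ⧸ (I ^ r).map (algebraMap A B))) := by
  let KR := (I ^ r).map (algebraMap A R)
  let KB := (I ^ r).map (algebraMap A B)
  have hnil : ∀ (T : Type u) [CommRing T] [Algebra A T], (I ^ r).map (algebraMap A T) = ⊥ →
      HenselianRing T (I.map (algebraMap A T)) := fun T _ _ hT => Groth.L05.henselianRing_of_nil _ fun x hx => by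
    refine ⟨r, Ideal.mem_bot.mp ?_⟩
    rw [← hT, Ideal.map_pow]
    exact Ideal.pow_mem_pow hx r
  have hR0 : (I ^ r).map (algebraMap A (R ⧸ KR)) = ⊥ := by
    rw [IsScalarTower.algebraMap_eq A R (R ⧸ KR), ← Ideal.map_map, Ideal.Quotient.algebraMap_eq,
      Ideal.map_quotient_self]
  have hB0 : (I ^ r).map (algebraMap A (B ⧸ KB)) = ⊥ := by
    rw [IsScalarTower.algebraMap_eq A B (B ⧸ KB), ← Ideal.map_map, Ideal.Quotient.algebraMap_eq,
      Ideal.map_quotient_self]
  let f : (R ⧸ KR) →ₐ[A] B ⧸ KB := Ideal.quotientMapₐ KB (IsScalarTower.toAlgHom A R B) (by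
    rw [Ideal.map_le_iff_le_comap]
    intro a ha
    show algebraMap R B (algebraMap A R a) ∈ KB
    rw [← IsScalarTower.algebraMap_apply]
    exact Ideal.mem_map_of_mem _ ha)
  haveI := hnil (R ⧸ KR) hR0
  obtain ⟨g, hg, -⟩ := existsUnique_extend I hB (I.map (algebraMap A (R ⧸ KR))) le_rfl (Ideal.Quotient.mkₐ A KR)
  have hgK : ∀ x ∈ KB, g x = 0 := fun x hx => by
    have : x ∈ RingHom.ker g := Ideal.map_le_iff_le_comap.mpr (fun a ha => by
      rw [Ideal.mem_comap, RingHom.mem_ker, AlgHom.commutes, ← Ideal.mem_bot, ← hR0]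
      exact Ideal.mem_map_of_mem _ ha) hx
    exact this
  let g' : (B ⧸ KB) →ₐ[A] R ⧸ KR := Ideal.Quotient.liftₐ KB g hgK
  haveI := hnil (B ⧸ KB) hB0
  have h1 : f.comp g = Ideal.Quotient.mkₐ A KB :=
    algHom_ext_hens I hB (I.map (algebraMap A (B ⧸ KB))) le_rfl fun x => by
      show f (g (algebraMap R B x)) = _
      rw [show g (algebraMap R B x) = Ideal.Quotient.mk KR x from DFunLike.congr_fun hg x]
      rfl
  refine ⟨AlgEquiv.ofAlgHom f g' ?_ ?_⟩
  · refine AlgHom.ext fun y => ?_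
    obtain ⟨x, rfl⟩ := Ideal.Quotient.mk_surjective y
    exact DFunLike.congr_fun h1 x
  · refine AlgHom.ext fun y => ?_
    obtain ⟨x, rfl⟩ := Ideal.Quotient.mk_surjective y
    exact DFunLike.congr_fun hg x

theorem finitePresentation_truncation [Algebra.FinitePresentation A R] (r : ℕ) :
    Algebra.FinitePresentation (A ⧸ I ^ r) (B ⧸ (I ^ r).map (algebraMap A B)) := by
  have hR : Algebra.FinitePresentation (A ⧸ I ^ r) (R ⧸ (I ^ r).map (algebraMap A R)) := by
    haveI : Algebra.FinitePresentation (A ⧸ I ^ r) (TensorProduct A (A ⧸ I ^ r) R) :=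
      Algebra.FinitePresentation.baseChange (A := R) (A ⧸ I ^ r)
    exact Algebra.FinitePresentation.equiv
      (AlgEquiv.extendScalarsOfSurjective (R := A) (S := A ⧸ I ^ r) Ideal.Quotient.mk_surjective
        (((Algebra.TensorProduct.quotIdealMapEquivQuotTensor R (I ^ r)).restrictScalars A).symm))
  obtain ⟨e⟩ := nonempty_algEquiv_truncation I hB (r := r)
  exact Algebra.FinitePresentation.equiv
    (AlgEquiv.extendScalarsOfSurjective (R := A) (S := A ⧸ I ^ r) Ideal.Quotient.mk_surjective e)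

end Quotient

section Formal

variable {B : Type u} [CommRing B] [Algebra A B]

/-- Lifting against torsion test rings. -/
abbrev TorsionLifts : Prop :=
  ∀ (E C : Type u) [CommRing E] [CommRing C] [Algebra A E] [Algebra A C] (N : ℕ), 1 ≤ N →
    (I ^ N).map (algebraMap A E) = ⊥ → (I ^ N).map (algebraMap A C) = ⊥ →
    ∀ (p : E →ₐ[A] C), Function.Surjective p → (∃ M : ℕ, 1 ≤ M ∧ RingHom.ker p ^ M = ⊥) →
    ∀ u : B →ₐ[A] C, ∃ v : B →ₐ[A] E, p.comp v = u

/-- Uniqueness of lifts against torsion test rings. -/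
abbrev TorsionUnique : Prop :=
  ∀ (E C : Type u) [CommRing E] [CommRing C] [Algebra A E] [Algebra A C] (N : ℕ), 1 ≤ N →
    (I ^ N).map (algebraMap A E) = ⊥ → (I ^ N).map (algebraMap A C) = ⊥ →
    ∀ (p : E →ₐ[A] C), Function.Surjective p → (∃ M : ℕ, 1 ≤ M ∧ RingHom.ker p ^ M = ⊥) →
    ∀ v w : B →ₐ[A] E, p.comp v = p.comp w → v = w

/-- An algebra killed by an ideal is an algebra over the quotient. -/
@[reducible] noncomputable def algebraQuotientOfKilled {K : Ideal A} {T : Type u} [CommRing T] [Algebra A T]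
    (h : K.map (algebraMap A T) = ⊥) : Algebra (A ⧸ K) T :=
  (Ideal.Quotient.lift K (algebraMap A T) fun a ha =>
    Ideal.mem_bot.mp (h ▸ Ideal.mem_map_of_mem _ ha)).toAlgebra

theorem exists_factor {K : Ideal A} {T : Type u} [CommRing T] [Algebra A T] [Algebra (A ⧸ K) T]
    [IsScalarTower A (A ⧸ K) T] (u : B →ₐ[A] T) :
    ∃ u' : (B ⧸ K.map (algebraMap A B)) →ₐ[A ⧸ K] T, ∀ b, u' (Ideal.Quotient.mk _ b) = u b := by
  have h : ∀ b ∈ K.map (algebraMap A B), u b = 0 := fun b hb => by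
    have : b ∈ RingHom.ker u := Ideal.map_le_iff_le_comap.mpr (fun a ha => by
      rw [Ideal.mem_comap, RingHom.mem_ker, AlgHom.commutes, IsScalarTower.algebraMap_apply A (A ⧸ K) T,
        Ideal.Quotient.algebraMap_eq, Ideal.Quotient.eq_zero_iff_mem.mpr ha, map_zero]) hb
    exact this
  exact ⟨AlgHom.extendScalarsOfSurjective Ideal.Quotient.mk_surjective (Ideal.Quotient.liftₐ _ u h), fun b => rfl⟩

theorem torsionLifts_iff : TorsionLifts I (B := B) ↔
    ∀ r : ℕ, 1 ≤ r → Algebra.FormallySmooth (A ⧸ I ^ r) (B ⧸ (I ^ r).map (algebraMap A B)) := by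
  constructor
  · intro H r hr
    refine Algebra.FormallySmooth.of_comp_surjective fun E _ _ J hJ g => ?_
    letI : Algebra A E := ((algebraMap (A ⧸ I ^ r) E).comp (Ideal.Quotient.mk (I ^ r))).toAlgebra
    haveI : IsScalarTower A (A ⧸ I ^ r) E := IsScalarTower.of_algebraMap_eq fun _ => rfl
    have hkill : ∀ (T : Type u) [CommRing T] [Algebra A T] [Algebra (A ⧸ I ^ r) T] [IsScalarTower A (A ⧸ I ^ r) T],
        (I ^ r).map (algebraMap A T) = ⊥ := fun T _ _ _ _ => by
      rw [IsScalarTower.algebraMap_eq A (A ⧸ I ^ r) T, ← Ideal.map_map, Ideal.Quotient.algebraMap_eq,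
        Ideal.map_quotient_self, Ideal.map_bot]
    obtain ⟨v, hv⟩ := H E (E ⧸ J) r hr (hkill E) (hkill (E ⧸ J)) (Ideal.Quotient.mkₐ A J)
      Ideal.Quotient.mk_surjective ⟨2, by norm_num, by
        rw [show RingHom.ker (Ideal.Quotient.mkₐ A J) = J from Ideal.mk_ker]; exact hJ⟩
      ((g.restrictScalars A).comp (Ideal.Quotient.mkₐ A _))
    obtain ⟨v', hv'⟩ := exists_factor (K := I ^ r) v
    refine ⟨v', AlgHom.ext fun y => ?_⟩
    obtain ⟨b, rfl⟩ := Ideal.Quotient.mk_surjective y
    show Ideal.Quotient.mk J (v' (Ideal.Quotient.mk _ b)) = _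
    rw [hv']
    exact DFunLike.congr_fun hv b
  · intro H E C _ _ _ _ N hN hE hC p hp hM u
    letI := algebraQuotientOfKilled hE
    letI := algebraQuotientOfKilled hC
    haveI : IsScalarTower A (A ⧸ I ^ N) E := IsScalarTower.of_algebraMap_eq fun _ => rfl
    haveI : IsScalarTower A (A ⧸ I ^ N) C := IsScalarTower.of_algebraMap_eq fun _ => rfl
    haveI := H N hN
    let p' : E →ₐ[A ⧸ I ^ N] C := AlgHom.extendScalarsOfSurjective Ideal.Quotient.mk_surjective p
    obtain ⟨u', hu'⟩ := exists_factor (K := I ^ N) u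
    obtain ⟨M, -, hM'⟩ := hM
    have hnil : IsNilpotent (RingHom.ker (p' : E →+* C)) := ⟨M, hM'⟩
    let v' := Algebra.FormallySmooth.liftOfSurjective u' p' hp hnil
    refine ⟨(v'.restrictScalars A).comp (Ideal.Quotient.mkₐ A _), AlgHom.ext fun b => ?_⟩
    exact (Algebra.FormallySmooth.liftOfSurjective_apply u' p' hp hnil _).trans (hu' b)

theorem torsionUnique_iff : TorsionUnique I (B := B) ↔
    ∀ r : ℕ, 1 ≤ r → Algebra.FormallyUnramified (A ⧸ I ^ r) (B ⧸ (I ^ r).map (algebraMap A B)) := by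
  constructor
  · intro H r hr
    refine Algebra.FormallyUnramified.iff_comp_injective_of_small.{u}.mpr fun E _ _ J hJ g₁ g₂ hg => ?_
    letI : Algebra A E := ((algebraMap (A ⧸ I ^ r) E).comp (Ideal.Quotient.mk (I ^ r))).toAlgebra
    haveI : IsScalarTower A (A ⧸ I ^ r) E := IsScalarTower.of_algebraMap_eq fun _ => rfl
    have hkill : ∀ (T : Type u) [CommRing T] [Algebra A T] [Algebra (A ⧸ I ^ r) T] [IsScalarTower A (A ⧸ I ^ r) T],
        (I ^ r).map (algebraMap A T) = ⊥ := fun T _ _ _ _ => by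
      rw [IsScalarTower.algebraMap_eq A (A ⧸ I ^ r) T, ← Ideal.map_map, Ideal.Quotient.algebraMap_eq,
        Ideal.map_quotient_self, Ideal.map_bot]
    have h := H E (E ⧸ J) r hr (hkill E) (hkill (E ⧸ J)) (Ideal.Quotient.mkₐ A J)
      Ideal.Quotient.mk_surjective ⟨2, by norm_num, by
        rw [show RingHom.ker (Ideal.Quotient.mkₐ A J) = J from Ideal.mk_ker]; exact hJ⟩
      ((g₁.restrictScalars A).comp (Ideal.Quotient.mkₐ A _)) ((g₂.restrictScalars A).comp (Ideal.Quotient.mkₐ A _))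
      (AlgHom.ext fun b => DFunLike.congr_fun hg (Ideal.Quotient.mk _ b))
    refine AlgHom.ext fun y => ?_
    obtain ⟨b, rfl⟩ := Ideal.Quotient.mk_surjective y
    exact DFunLike.congr_fun h b
  · intro H E C _ _ _ _ N hN hE hC p hp hM v w hvw
    letI := algebraQuotientOfKilled hE
    letI := algebraQuotientOfKilled hC
    haveI : IsScalarTower A (A ⧸ I ^ N) E := IsScalarTower.of_algebraMap_eq fun _ => rfl
    haveI : IsScalarTower A (A ⧸ I ^ N) C := IsScalarTower.of_algebraMap_eq fun _ => rfl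
    haveI := H N hN
    let p' : E →ₐ[A ⧸ I ^ N] C := AlgHom.extendScalarsOfSurjective Ideal.Quotient.mk_surjective p
    obtain ⟨v', hv'⟩ := exists_factor (K := I ^ N) v
    obtain ⟨w', hw'⟩ := exists_factor (K := I ^ N) w
    obtain ⟨M, -, hM'⟩ := hM
    have h : v' = w' := Algebra.FormallyUnramified.lift_unique' p' ⟨M, hM'⟩ v' w' (AlgHom.ext fun y => by
      obtain ⟨b, rfl⟩ := Ideal.Quotient.mk_surjective y
      show p (v' _) = p (w' _)
      rw [hv', hw']
      exact DFunLike.congr_fun hvw b)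
    exact AlgHom.ext fun b => by rw [← hv', ← hw', h]

end Formal

end Groth.L05.Hfp
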